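import Mathlib

/-!
# Sylow counting toolkit for small simple groups

General lemmas used to eliminate or pin down simple groups of a given order.
-/

set_option autoImplicit false

namespace Cfsg.Agent.Lib.SmallGroups.Sylow

open Subgroup

variable {G : Type*} [Group G] [Finite G]

/-! ## Basic consequences of simplicity -/

/-- A group whose order is not a prime is not cyclic simple, hence not abelian. -/
theorem not_comm_of_card [IsSimpleGroup G] (h : ¬ (Nat.card G).Prime) : ¬ IsMulCommutative G := by
  intro hc
  let _ : CommGroup G := { ‹Group G› with mul_comm := fun a b => hc.is_comm.comm a b }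
  exact h IsSimpleGroup.prime_card

/-- A non-abelian simple group is perfect. -/
theorem commutator_eq_top [IsSimpleGroup G] (hG : ¬ IsMulCommutative G) :
    commutator G = ⊤ := by
  rcases IsSimpleGroup.eq_bot_or_eq_top_of_normal (commutator G) inferInstance with h | h
  · exfalso
    apply hG
    rw [commutator_eq_bot_iff_center_eq_top] at h
    refine ⟨⟨fun a b => ?_⟩⟩
    have : a ∈ center G := h ▸ Subgroup.mem_top a
    exact (Subgroup.mem_center_iff.mp this b).symm
  · exact h

/-- The centre of a non-abelian simple group is trivial. -/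
theorem center_eq_bot [IsSimpleGroup G] (hG : ¬ IsMulCommutative G) : center G = ⊥ := by
  rcases IsSimpleGroup.eq_bot_or_eq_top_of_normal (center G) inferInstance with h | h
  · exact h
  · exfalso
    apply hG
    refine ⟨⟨fun a b => ?_⟩⟩
    have : a ∈ center G := h ▸ Subgroup.mem_top a
    exact (Subgroup.mem_center_iff.mp this b).symm

/-- A homomorphism out of a simple group is trivial or injective. -/
theorem injective_or_trivial [IsSimpleGroup G] {K : Type*} [Group K] (f : G →* K) :
    Function.Injective f ∨ ∀ g, f g = 1 := by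
  rcases IsSimpleGroup.eq_bot_or_eq_top_of_normal f.ker inferInstance with h | h
  · exact Or.inl ((MonoidHom.ker_eq_bot_iff f).mp h)
  · exact Or.inr fun g => by
      have hg : g ∈ f.ker := h ▸ Subgroup.mem_top g
      exact hg

/-- A proper subgroup of a simple group has trivial normal core. -/
theorem normalCore_eq_bot [IsSimpleGroup G] {H : Subgroup G} (hH : H ≠ ⊤) :
    H.normalCore = ⊥ := by
  rcases IsSimpleGroup.eq_bot_or_eq_top_of_normal H.normalCore inferInstance with h | h
  · exact h
  · exact absurd (top_le_iff.mp (h ▸ normalCore_le H)) hH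

omit [Finite G] in
/-- The action on cosets of a proper subgroup of a simple group is faithful. -/
theorem toPermHom_injective [IsSimpleGroup G] {H : Subgroup G} (hH : H ≠ ⊤) :
    Function.Injective (MulAction.toPermHom G (G ⧸ H)) := by
  rw [← MonoidHom.ker_eq_bot_iff, ← normalCore_eq_ker]
  rcases IsSimpleGroup.eq_bot_or_eq_top_of_normal H.normalCore inferInstance with h | h
  · exact h
  · exact absurd (top_le_iff.mp (h ▸ normalCore_le H)) hH

/-- A non-abelian simple group embeds in the alternating group on the cosets of any proper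
subgroup. -/
theorem exists_alt_embedding [IsSimpleGroup G] (hG : ¬ IsMulCommutative G) {H : Subgroup G}
    (hH : H ≠ ⊤) {n : ℕ} (hn : H.index = n) :
    ∃ f : G →* ↥(alternatingGroup (Fin n)), Function.Injective f := by
  classical
  have hne : n ≠ 0 := hn ▸ Subgroup.index_ne_zero_of_finite
  have : NeZero n := ⟨hne⟩
  let e : G ⧸ H ≃ Fin n := Finite.equivFinOfCardEq (by rw [← hn]; rfl)
  let f : G →* Equiv.Perm (Fin n) := e.permCongrHom.toMonoidHom.comp (MulAction.toPermHom G (G ⧸ H))
  have hf : Function.Injective f := e.permCongrHom.injective.comp (toPermHom_injective hH)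
  have hs : ∀ g, f g ∈ alternatingGroup (Fin n) := by
    intro g
    rw [Equiv.Perm.mem_alternatingGroup]
    rcases injective_or_trivial (Equiv.Perm.sign.comp f) with h | h
    · exfalso
      apply hG
      exact ⟨⟨fun a b => h (by simp [mul_comm])⟩⟩
    · exact h g
  exact ⟨f.codRestrict _ hs, fun a b hab => hf (congrArg Subtype.val hab)⟩

/-- `2|G|` divides `k!` for the index `k` of any proper subgroup. -/
theorem two_mul_card_dvd_factorial [IsSimpleGroup G] (hG : ¬ IsMulCommutative G) {H : Subgroup G}
    (hH : H ≠ ⊤) : 2 * Nat.card G ∣ H.index.factorial := by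
  obtain ⟨f, hf⟩ := exists_alt_embedding hG hH (rfl : H.index = H.index)
  have h2 : 2 ≤ H.index := by
    have h0 : H.index ≠ 0 := Subgroup.index_ne_zero_of_finite
    have h1 : H.index ≠ 1 := fun h => hH (Subgroup.index_eq_one.mp h)
    omega
  have : Nontrivial (Fin H.index) := Fin.nontrivial_iff_two_le.mpr h2
  have h := Subgroup.card_dvd_of_injective f hf
  have h' := two_mul_nat_card_alternatingGroup (α := Fin H.index)
  rw [Nat.card_perm, Nat.card_fin] at h'
  exact h' ▸ Nat.mul_dvd_mul_left 2 h

/-- In a non-abelian simple group, a subgroup of index `k` with `¬ 2|G| ∣ k!` is everything. -/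
theorem eq_top_of_index [IsSimpleGroup G] (hG : ¬ IsMulCommutative G) {H : Subgroup G}
    (h : ¬ 2 * Nat.card G ∣ H.index.factorial) : H = ⊤ := by
  by_contra hH
  exact h (two_mul_card_dvd_factorial hG hH)

/-! ## Numbers of Sylow subgroups -/

section prime

variable {p : ℕ} [hp : Fact p.Prime]

/-- Order of a Sylow subgroup from a factorisation of the group order. -/
theorem card_sylow_eq (P : Sylow p G) {a m : ℕ} (h : Nat.card G = p ^ a * m) (hm : ¬ p ∣ m) :
    Nat.card ↥(P : Subgroup G) = p ^ a := by
  rw [P.card_eq_multiplicity, h, Nat.factorization_mul (pow_ne_zero _ hp.out.ne_zero)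
    (fun h0 : m = 0 => hm (h0 ▸ dvd_zero p))]
  simp [Nat.factorization_eq_zero_of_not_dvd hm, hp.out.factorization_pow]

/-- Index of a Sylow subgroup from a factorisation of the group order. -/
theorem index_sylow_eq (P : Sylow p G) {a m : ℕ} (h : Nat.card G = p ^ a * m) (hm : ¬ p ∣ m) :
    (P : Subgroup G).index = m := by
  have h1 := (P : Subgroup G).card_mul_index
  rw [card_sylow_eq P h hm, h] at h1
  exact Nat.eq_of_mul_eq_mul_left (pow_pos hp.out.pos a) h1

/-- `n_p` divides the `p'`-part of the group order. -/
theorem card_sylow_dvd {a m : ℕ} (h : Nat.card G = p ^ a * m) (hm : ¬ p ∣ m) :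
    Nat.card (Sylow p G) ∣ m :=
  index_sylow_eq (default : Sylow p G) h hm ▸ (default : Sylow p G).card_dvd_index

theorem card_sylow_mod : Nat.card (Sylow p G) % p = 1 := by
  have h := card_sylow_modEq_one p G
  rwa [Nat.ModEq, Nat.one_mod_eq_one.mpr hp.out.ne_one] at h

/-- `|N(P)| * n_p = |G|`. -/
theorem card_normalizer_mul (P : Sylow p G) :
    Nat.card ↥(normalizer ((P : Subgroup G) : Set G)) * Nat.card (Sylow p G) = Nat.card G := by
  rw [P.card_eq_index_normalizer]
  exact Subgroup.card_mul_index _

/-- `n_p` is the index of the normalizer (in the coercion form used here). -/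
theorem index_normalizer (P : Sylow p G) :
    (normalizer ((P : Subgroup G) : Set G)).index = Nat.card (Sylow p G) :=
  P.card_eq_index_normalizer.symm

/-- A simple group, not a `p`-group, has more than one Sylow `p`-subgroup if `p` divides its
order. -/
theorem card_sylow_ne_one [IsSimpleGroup G] {a m : ℕ} (h : Nat.card G = p ^ a * m) (hm : ¬ p ∣ m)
    (ha : a ≠ 0) (hm1 : m ≠ 1) : Nat.card (Sylow p G) ≠ 1 := by
  intro h1
  have : Subsingleton (Sylow p G) := (Nat.card_eq_one_iff_unique.mp h1).1
  let P : Sylow p G := default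
  have hn : (P : Subgroup G).Normal := P.normal_of_subsingleton
  rcases IsSimpleGroup.eq_bot_or_eq_top_of_normal _ hn with hb | hb
  · have := card_sylow_eq P h hm
    rw [hb, Subgroup.card_bot] at this
    exact (one_lt_pow₀ hp.out.one_lt ha).ne this
  · have := index_sylow_eq P h hm
    rw [hb, Subgroup.index_top] at this
    exact hm1 this.symm

/-- In a simple group with more than one Sylow `p`-subgroup, the normalizer of each is proper. -/
theorem normalizer_ne_top (P : Sylow p G) (h : Nat.card (Sylow p G) ≠ 1) :
    normalizer ((P : Subgroup G) : Set G) ≠ ⊤ := by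
  intro ht
  apply h
  rw [P.card_eq_index_normalizer]
  exact Subgroup.index_eq_one.mpr ht

/-- The number of Sylow subgroups satisfies `2|G| ∣ n!` in a non-abelian simple group. -/
theorem two_mul_card_dvd_sylow_factorial [IsSimpleGroup G] (hG : ¬ IsMulCommutative G)
    (h : Nat.card (Sylow p G) ≠ 1) : 2 * Nat.card G ∣ (Nat.card (Sylow p G)).factorial := by
  let P : Sylow p G := default
  rw [P.card_eq_index_normalizer]
  exact two_mul_card_dvd_factorial hG (normalizer_ne_top P h)

/-- `n_p` lies among the divisors of the `p'`-part that are `1` mod `p`. -/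
theorem card_sylow_mem {a m : ℕ} (h : Nat.card G = p ^ a * m) (hm : ¬ p ∣ m) :
    Nat.card (Sylow p G) ∈ m.divisors.filter (fun d => d % p = 1) := by
  rw [Finset.mem_filter, Nat.mem_divisors]
  exact ⟨⟨card_sylow_dvd h hm, fun h0 => hm (h0 ▸ dvd_zero p)⟩, card_sylow_mod⟩

/-! ## Burnside's transfer theorem in simple groups -/

/-- In a non-abelian simple group, no non-trivial Sylow subgroup is central in its normalizer. -/
theorem not_normalizer_le_centralizer [IsSimpleGroup G] (hG : ¬ IsMulCommutative G)
    (P : Sylow p G) (hP : (P : Subgroup G) ≠ ⊥) :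
    ¬ normalizer ((P : Subgroup G) : Set G) ≤ centralizer ((P : Subgroup G) : Set G) := by
  intro hle
  have hc := MonoidHom.ker_transferSylow_isComplement' P hle
  rcases IsSimpleGroup.eq_bot_or_eq_top_of_normal (MonoidHom.transferSylow P hle).ker
    inferInstance with hb | hb
  · rw [hb, isComplement'_bot_left] at hc
    apply hG
    refine ⟨⟨fun a b => ?_⟩⟩
    have h2 : ∀ x : G, x ∈ (P : Subgroup G) := fun x => hc ▸ Subgroup.mem_top x
    exact hle (le_normalizer (h2 b)) a (h2 a)
  · rw [hb, isComplement'_top_left] at hc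
    exact hP hc

/-- `N(P)/C(P)` has order dividing that of `Aut P`. -/
theorem relIndex_dvd_card_mulAut {G : Type*} [Group G] [Finite G] (P : Subgroup G) :
    (centralizer (P : Set G)).relIndex (normalizer (P : Set G)) ∣ Nat.card (MulAut ↥P) := by
  have key := card_dvd_of_injective _ (QuotientGroup.kerLift_injective P.normalizerMonoidHom)
  rwa [normalizerMonoidHom_ker, ← index, ← relIndex] at key

omit [Finite G] in
/-- `C(P) ≤ N(P)`. -/
theorem centralizer_le_normalizer (P : Subgroup G) :
    centralizer (P : Set G) ≤ normalizer (P : Set G) := by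
  intro x hx
  rw [mem_normalizer_iff]
  intro h
  constructor
  · intro hh
    have := hx h hh
    rwa [← this, mul_inv_cancel_right]
  · intro hh
    have h2 : x⁻¹ * (x * h * x⁻¹) * x = h := by group
    have := hx _ hh
    rw [mul_assoc, this, ← mul_assoc, inv_mul_cancel, one_mul] at h2
    rwa [h2] at hh

/-- `|N(P)| = |C(P)| * [N(P):C(P)]`. -/
theorem card_centralizer_mul_relIndex (P : Subgroup G) :
    Nat.card ↥(centralizer (P : Set G)) *
      (centralizer (P : Set G)).relIndex (normalizer (P : Set G)) =
      Nat.card ↥(normalizer (P : Set G)) := by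
  rw [← relIndex_bot_left, ← relIndex_bot_left (normalizer (P : Set G))]
  exact relIndex_mul_relIndex _ _ _ bot_le (centralizer_le_normalizer P)

/-- For a Sylow subgroup of prime order: `[N:C] ∣ p - 1` and it is not `1` in a simple group. -/
theorem relIndex_of_card_prime [IsSimpleGroup G] (hG : ¬ IsMulCommutative G) (P : Sylow p G)
    (hP : Nat.card ↥(P : Subgroup G) = p) :
    (centralizer ((P : Subgroup G) : Set G)).relIndex (normalizer ((P : Subgroup G) : Set G)) ∣ p - 1
      ∧ (centralizer ((P : Subgroup G) : Set G)).relIndex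
          (normalizer ((P : Subgroup G) : Set G)) ≠ 1 := by
  constructor
  · have hc : IsCyclic ↥(P : Subgroup G) := isCyclic_of_prime_card hP
    have := relIndex_dvd_card_mulAut (P : Subgroup G)
    rwa [IsCyclic.card_mulAut, hP, Nat.totient_prime hp.out] at this
  · intro h
    refine not_normalizer_le_centralizer hG P ?_ (relIndex_eq_one.mp h)
    intro hb
    rw [hb, Subgroup.card_bot] at hP
    exact hp.out.ne_one hP.symm

/-- If the Sylow subgroup has order `p` then `|C(P)| * e = |N(P)|` with `1 < e ∣ p - 1`
and `p ∣ |C(P)|`. -/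
theorem exists_normalizer_factor [IsSimpleGroup G] (hG : ¬ IsMulCommutative G) (P : Sylow p G)
    (hP : Nat.card ↥(P : Subgroup G) = p) :
    ∃ e c : ℕ, e ∣ p - 1 ∧ 1 < e ∧ p ∣ c ∧ Nat.card ↥(centralizer ((P : Subgroup G) : Set G)) = c ∧
      c * e = Nat.card ↥(normalizer ((P : Subgroup G) : Set G)) := by
  obtain ⟨h1, h2⟩ := relIndex_of_card_prime hG P hP
  refine ⟨_, _, h1, ?_, ?_, rfl, card_centralizer_mul_relIndex _⟩
  · have h0 := Nat.pos_of_dvd_of_pos h1 (by have := hp.out.two_le; omega)
    omega
  · have hc : IsCyclic ↥(P : Subgroup G) := isCyclic_of_prime_card hP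
    have hle : (P : Subgroup G) ≤ centralizer ((P : Subgroup G) : Set G) := by
      intro x hx y hy
      have := hc.isMulCommutative.is_comm.comm (⟨y, hy⟩ : ↥(P : Subgroup G)) ⟨x, hx⟩
      exact congrArg Subtype.val this
    have := Subgroup.card_dvd_of_le hle
    rwa [hP] at this

end prime

section

variable {p : ℕ} [hp : Fact p.Prime]

open scoped IsMulCommutative in
/-- In a non-abelian simple group an abelian Sylow subgroup meets the centre of its normalizer
trivially (transfer). -/
theorem eq_one_of_central_in_normalizer [IsSimpleGroup G] (hG : ¬ IsMulCommutative G)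
    (P : Sylow p G) (hc : (P : Subgroup G) ≤ centralizer ((P : Subgroup G) : Set G)) {x : G}
    (hx : x ∈ (P : Subgroup G))
    (hN : ∀ n ∈ normalizer ((P : Subgroup G) : Set G), n * x = x * n) : x = 1 := by
  haveI : IsMulCommutative ↥(P : Subgroup G) :=
    ⟨⟨fun a b => Subtype.ext (hc b.2 a a.2)⟩⟩
  let V := MonoidHom.transfer (MonoidHom.id ↥(P : Subgroup G))
  have key : ∀ (k : ℕ) (g₀ : G), g₀⁻¹ * x ^ k * g₀ ∈ (P : Subgroup G) →
      g₀⁻¹ * x ^ k * g₀ = x ^ k := by
    intro k g₀ hg
    obtain ⟨n, hn, hn'⟩ := P.conj_eq_normalizer_conj_of_mem (x ^ k) g₀ (pow_mem hx k) hg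
    rw [hn']
    exact Commute.inv_mul_cancel ((show Commute n x from hN n hn).pow_right k)
  have hV : V x = ⟨x ^ (P : Subgroup G).index, MonoidHom.transfer_eq_pow_aux x key⟩ :=
    MonoidHom.transfer_eq_pow _ x key
  rcases injective_or_trivial V with h | h
  · exact absurd ⟨⟨fun a b => h (by rw [map_mul, map_mul, mul_comm])⟩⟩ hG
  · rw [h x] at hV
    have h1 : x ^ (P : Subgroup G).index = 1 := (congrArg Subtype.val hV).symm
    obtain ⟨a, ha⟩ := P.2.exists_card_eq
    have h2 : orderOf x ∣ p ^ a := by
      rw [← ha, ← Subgroup.orderOf_mk x hx]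
      exact orderOf_dvd_natCard _
    exact orderOf_eq_one_iff.mp (Nat.eq_one_of_dvd_coprimes
      ((hp.out.coprime_iff_not_dvd.mpr P.not_dvd_index).pow_left a) h2
      (orderOf_dvd_of_pow_eq_one h1))

end

end Cfsg.Agent.Lib.SmallGroups.Sylow
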