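import Mathlib
import Cfsg.Agent.Lib.SmallGroups.Sylow

/-!
# Element counts, Sylow intersections, permutation groups of degree less than `2p`
-/

set_option autoImplicit false

namespace Cfsg.Agent.Lib.SmallGroups.Counting

open Subgroup Cfsg.Agent.Lib.SmallGroups.Sylow

section

variable {G : Type*} [Group G] [Finite G] {p : ℕ} [hp : Fact p.Prime]

/-- If the Sylow `p`-subgroups have order `p`, there are `n_p (p-1)` elements of order `p`. -/
theorem card_orderOf_eq_prime (hP : ∀ P : Sylow p G, Nat.card ↥(P : Subgroup G) = p) :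
    Nat.card {g : G // orderOf g = p} = Nat.card (Sylow p G) * (p - 1) := by
  classical
  have : Fintype (Sylow p G) := Fintype.ofFinite _
  have hord : ∀ (P : Sylow p G) (x : G), x ∈ (P : Subgroup G) → x ≠ 1 →
      orderOf x = p ∧ zpowers x = (P : Subgroup G) := by
    intro P x hx hx1
    have hle : zpowers x ≤ (P : Subgroup G) := zpowers_le.mpr hx
    have ho : orderOf x = p := by
      have h1 := Subgroup.card_dvd_of_le hle
      rw [Nat.card_zpowers, hP P] at h1
      exact (hp.out.eq_one_or_self_of_dvd _ h1).resolve_left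
        (fun h => hx1 (orderOf_eq_one_iff.mp h))
    exact ⟨ho, eq_of_le_of_card_ge hle (by rw [Nat.card_zpowers, ho, hP P])⟩
  let f : (Σ P : Sylow p G, {x : ↥(P : Subgroup G) // x ≠ 1}) → {g : G // orderOf g = p} :=
    fun s => ⟨s.2.1.1, (hord s.1 s.2.1.1 s.2.1.2 (fun h => s.2.2 (Subtype.ext h))).1⟩
  have hf : Function.Bijective f := by
    constructor
    · rintro ⟨P, ⟨x, hx⟩, hx1⟩ ⟨Q, ⟨y, hy⟩, hy1⟩ h
      have hxy : x = y := congrArg Subtype.val h
      subst hxy
      have hne : x ≠ 1 := fun h => hx1 (Subtype.ext h)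
      have hPQ : P = Q := _root_.Sylow.ext
        ((hord P x hx hne).2.symm.trans (hord Q x hy hne).2)
      subst hPQ
      rfl
    · rintro ⟨g, hg⟩
      have hpg : IsPGroup p ↥(zpowers g) :=
        IsPGroup.of_card (n := 1) (by rw [Nat.card_zpowers, hg, pow_one])
      obtain ⟨Q, hQ⟩ := hpg.exists_le_sylow
      refine ⟨⟨Q, ⟨g, hQ (mem_zpowers g)⟩, fun h => ?_⟩, rfl⟩
      have h' : g = 1 := congrArg Subtype.val h
      apply hp.out.ne_one
      rw [← hg, h', orderOf_one]
  rw [← Nat.card_eq_of_bijective f hf, Nat.card_sigma]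
  have : ∀ P : Sylow p G, Nat.card {x : ↥(P : Subgroup G) // x ≠ 1} = p - 1 := by
    intro P
    have := Fintype.ofFinite ↥(P : Subgroup G)
    rw [Nat.card_eq_fintype_card, Fintype.card_subtype_compl, Fintype.card_subtype_eq,
      ← Nat.card_eq_fintype_card, hP P]
  simp [this, Nat.card_eq_fintype_card]

/-- If `n_p` is not `1` mod `p^k` two Sylow subgroups meet in index at most `p^(k-1)`. -/
theorem exists_index_le (k : ℕ) (h : ¬ Nat.card (Sylow p G) ≡ 1 [MOD p ^ k]) :
    ∃ P R : Sylow p G, P ≠ R ∧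
      ((R : Subgroup G).subgroupOf (P : Subgroup G)).index ≤ p ^ (k - 1) := by
  classical
  by_contra hc
  push Not at hc
  apply h
  let P : Sylow p G := default
  have hP := P.2
  have : Fintype (Sylow p G) := Fintype.ofFinite _
  let Ω := Quotient (MulAction.orbitRel ↥(P : Subgroup G) (Sylow p G))
  have : Fintype Ω := Fintype.ofFinite _
  let e : Sylow p G ≃ Σ ω : Ω, ↥(P : Subgroup G) ⧸ MulAction.stabilizer ↥(P : Subgroup G) ω.out :=
    MulAction.selfEquivSigmaOrbitsQuotientStabilizer _ _
  have hcard : Nat.card (Sylow p G) =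
      ∑ ω : Ω, (MulAction.stabilizer ↥(P : Subgroup G) ω.out).index := by
    rw [Nat.card_congr e, Nat.card_sigma]
    rfl
  have hstab : ∀ R : Sylow p G, MulAction.stabilizer ↥(P : Subgroup G) R =
      (R : Subgroup G).subgroupOf (P : Subgroup G) := by
    intro R
    ext x
    rw [MulAction.mem_stabilizer_iff, mem_subgroupOf]
    have h1 : x • R = (x : G) • R := rfl
    rw [h1, _root_.Sylow.smul_eq_iff_mem_normalizer]
    have h2 := hP.inf_normalizer_sylow R
    constructor
    · intro hx
      have : (x : G) ∈ (P : Subgroup G) ⊓ (R : Subgroup G) := h2 ▸ ⟨x.2, hx⟩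
      exact this.2
    · intro hx
      exact le_normalizer hx
  let ω₀ : Ω := Quotient.mk'' P
  have h0 : (MulAction.stabilizer ↥(P : Subgroup G) ω₀.out).index = 1 := by
    have hout : ω₀.out = P := by
      have hrel : MulAction.orbitRel ↥(P : Subgroup G) (Sylow p G) ω₀.out P :=
        Quotient.mk_out (s := MulAction.orbitRel ↥(P : Subgroup G) (Sylow p G)) P
      rw [MulAction.orbitRel_apply] at hrel
      obtain ⟨x, hx⟩ := hrel
      rw [← hx]
      exact _root_.Sylow.smul_eq_iff_mem_normalizer.mpr (le_normalizer x.2)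
    rw [hout, hstab, subgroupOf_self, index_top]
  have hrest : ∀ ω : Ω, ω ≠ ω₀ →
      p ^ k ∣ (MulAction.stabilizer ↥(P : Subgroup G) ω.out).index := by
    intro ω hω
    have hne : P ≠ ω.out := by
      intro he
      apply hω
      calc ω = Quotient.mk'' ω.out := (Quotient.out_eq' ω).symm
        _ = ω₀ := by rw [← he]
    obtain ⟨j, hj⟩ := hP.index ((ω.out : Subgroup G).subgroupOf (P : Subgroup G))
    rw [hstab, hj]
    have hlt := hc P ω.out hne
    rw [hj, Nat.pow_lt_pow_iff_right hp.out.one_lt] at hlt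
    exact Nat.pow_dvd_pow p (by omega)
  rw [hcard, ← Finset.sum_erase_add _ _ (Finset.mem_univ ω₀), h0]
  have hd : p ^ k ∣ ∑ ω ∈ Finset.univ.erase ω₀,
      (MulAction.stabilizer ↥(P : Subgroup G) ω.out).index :=
    Finset.dvd_sum fun ω hω => hrest ω (Finset.ne_of_mem_erase hω)
  simpa using (Nat.modEq_zero_iff_dvd.mpr hd).add_right 1

/-- Version with the order of the intersection. -/
theorem exists_card_inf_mul (k : ℕ) (h : ¬ Nat.card (Sylow p G) ≡ 1 [MOD p ^ k]) :
    ∃ P R : Sylow p G, P ≠ R ∧ ∃ j : ℕ, 0 < j ∧ j < k ∧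
      Nat.card ↥((P : Subgroup G) ⊓ (R : Subgroup G)) * p ^ j = Nat.card ↥(P : Subgroup G) := by
  obtain ⟨P, R, hPR, hle⟩ := exists_index_le k h
  obtain ⟨j, hj⟩ := P.2.index ((R : Subgroup G).subgroupOf (P : Subgroup G))
  rw [hj, Nat.pow_le_pow_iff_right hp.out.one_lt] at hle
  have hk : k ≠ 0 := fun hk => h (by subst hk; simp [Nat.modEq_one])
  refine ⟨P, R, hPR, j, ?_, by omega, ?_⟩
  · rcases Nat.eq_zero_or_pos j with h0 | h0
    · exfalso
      rw [h0, pow_zero, index_eq_one, subgroupOf_eq_top] at hj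
      exact hPR (_root_.Sylow.ext (eq_of_le_of_card_ge hj
        (le_of_eq (by rw [_root_.Sylow.card_eq_multiplicity, _root_.Sylow.card_eq_multiplicity]))))
    · exact h0
  · rw [← hj]
    have h1 : Nat.card ↥((P : Subgroup G) ⊓ (R : Subgroup G)) =
        Nat.card ↥((R : Subgroup G).subgroupOf (P : Subgroup G)) := by
      rw [← inf_subgroupOf_right, inf_comm]
      exact (Nat.card_congr (subgroupOfEquivOfLe inf_le_right).toEquiv).symm
    rw [h1]
    exact Subgroup.card_mul_index _

/-- If two distinct Sylow subgroups meet in index `p`, the normalizer of the intersection contains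
both, and has more than `p` Sylow subgroups; recorded numerically. -/
theorem normalizer_inf_of_index_prime (P R : Sylow p G) (hPR : P ≠ R)
    (h : Nat.card ↥((P : Subgroup G) ⊓ (R : Subgroup G)) * p = Nat.card ↥(P : Subgroup G)) :
    (P : Subgroup G) ≤ normalizer (((P : Subgroup G) ⊓ (R : Subgroup G) : Subgroup G) : Set G) ∧
    (R : Subgroup G) ≤ normalizer (((P : Subgroup G) ⊓ (R : Subgroup G) : Subgroup G) : Set G) ∧
    ∃ m d : ℕ,
      Nat.card ↥(normalizer (((P : Subgroup G) ⊓ (R : Subgroup G) : Subgroup G) : Set G)) =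
        Nat.card ↥(P : Subgroup G) * m ∧ d ∣ m ∧ d % p = 1 ∧ p < d ∧ ¬ p ∣ m := by
  have key : ∀ (S : Sylow p G) (D : Subgroup G), D ≤ (S : Subgroup G) →
      Nat.card ↥D * p = Nat.card ↥(S : Subgroup G) → (S : Subgroup G) ≤ normalizer (D : Set G) := by
    intro S D hle hcard
    rw [← normal_subgroupOf_iff_le_normalizer hle]
    have hi : (D.subgroupOf (S : Subgroup G)).index = p := by
      have h1 := Subgroup.card_mul_index (D.subgroupOf (S : Subgroup G))
      rw [Nat.card_congr (subgroupOfEquivOfLe hle).toEquiv, ← hcard] at h1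
      exact Nat.eq_of_mul_eq_mul_left Nat.card_pos h1
    apply Subgroup.normal_of_index_eq_minFac_card
    rw [hi]
    obtain ⟨a, ha⟩ := S.2.exists_card_eq
    rw [ha]
    rcases Nat.eq_zero_or_pos a with h0 | h0
    · exfalso
      subst h0
      rw [pow_zero] at ha
      rw [ha] at hcard
      exact hp.out.ne_one (Nat.eq_one_of_mul_eq_one_left hcard)
    · exact (hp.out.pow_minFac h0.ne').symm
  have hPR' : Nat.card ↥(R : Subgroup G) = Nat.card ↥(P : Subgroup G) := by
    rw [_root_.Sylow.card_eq_multiplicity, _root_.Sylow.card_eq_multiplicity]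
  have h1 := key P _ inf_le_left h
  have h2 := key R _ inf_le_right (h.trans hPR'.symm)
  refine ⟨h1, h2, ?_⟩
  set N := normalizer (((P : Subgroup G) ⊓ (R : Subgroup G) : Subgroup G) : Set G) with hN
  let P' : Sylow p ↥N := P.subtype h1
  let R' : Sylow p ↥N := R.subtype h2
  have hne : P' ≠ R' := fun he => hPR (_root_.Sylow.subtype_injective he)
  have hP' : Nat.card ↥(P' : Subgroup ↥N) = Nat.card ↥(P : Subgroup G) :=
    Nat.card_congr (subgroupOfEquivOfLe h1).toEquiv
  refine ⟨(P' : Subgroup ↥N).index, Nat.card (Sylow p ↥N), ?_, P'.card_dvd_index,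
    card_sylow_mod, ?_, P'.not_dvd_index⟩
  · rw [← hP', Subgroup.card_mul_index]
  · by_contra hlt
    have hmod : Nat.card (Sylow p ↥N) % p = 1 := card_sylow_mod
    have : Nontrivial (Sylow p ↥N) := ⟨P', R', hne⟩
    have hgt : 1 < Nat.card (Sylow p ↥N) := Finite.one_lt_card
    rcases Nat.lt_or_eq_of_le (not_lt.mp hlt) with h' | h'
    · rw [Nat.mod_eq_of_lt h'] at hmod; omega
    · rw [h', Nat.mod_self] at hmod; omega

/-- A subgroup of order `p^2` of a group is commutative. -/
theorem comm_of_card_sq {H : Subgroup G} (h : Nat.card ↥H = p ^ 2) :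
    H ≤ centralizer (H : Set G) := by
  have := IsPGroup.isMulCommutative_of_card_eq_prime_sq (p := p) h
  intro x hx y hy
  exact congrArg Subtype.val (this.is_comm.comm (⟨y, hy⟩ : ↥H) ⟨x, hx⟩)

end

/-! ## Degree less than `2p` -/

section perm

variable {α : Type*} [Fintype α] [DecidableEq α] {p : ℕ} [hp : Fact p.Prime]

omit hp in
theorem orderOf_eq_iff_cycleType [hp : Fact p.Prime] (h2 : Fintype.card α < 2 * p)
    (g : Equiv.Perm α) : orderOf g = p ↔ g.cycleType = {p} := by
  constructor
  · intro hg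
    obtain ⟨n, hn⟩ := Equiv.Perm.cycleType_prime_order (hg ▸ hp.out)
    rw [hg] at hn
    have hs := g.sum_cycleType_le
    rw [hn, Multiset.sum_replicate, smul_eq_mul] at hs
    have h0 : n = 0 := by
      by_contra h0
      have : 2 * p ≤ (n + 1) * p := Nat.mul_le_mul_right p (by omega)
      omega
    rw [hn, h0]
    rfl
  · intro hg
    rw [← Equiv.Perm.lcm_cycleType, hg]
    simp

theorem card_sylow_perm (h1 : p ≤ Fintype.card α) (h2 : Fintype.card α < 2 * p)
    (P : Sylow p (Equiv.Perm α)) : Nat.card ↥(P : Subgroup (Equiv.Perm α)) = p := by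
  have key : (Fintype.card α).factorial.factorization p = 1 := by
    rw [Nat.factorization_factorial hp.out (b := 2)]
    · simp only [show Finset.Ico 1 2 = {1} from rfl, Finset.sum_singleton, pow_one]
      exact Nat.div_eq_of_lt_le (by omega) (by omega)
    · calc Nat.log p (Fintype.card α) < 2 := by
            apply Nat.log_lt_of_lt_pow (by have := hp.out.two_le; omega)
            have := hp.out.two_le
            nlinarith
        _ ≤ 2 := le_rfl
  rw [P.card_eq_multiplicity, Nat.card_perm, Nat.card_eq_fintype_card, key, pow_one]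

/-- `|N(P)| = p (p-1) (n-p)!` in `S_n` for `p ≤ n < 2p`. -/
theorem card_normalizer_perm (h1 : p ≤ Fintype.card α) (h2 : Fintype.card α < 2 * p)
    (P : Sylow p (Equiv.Perm α)) :
    Nat.card ↥(normalizer ((P : Subgroup (Equiv.Perm α)) : Set (Equiv.Perm α))) =
      p * (p - 1) * (Fintype.card α - p).factorial := by
  have hc := card_orderOf_eq_prime (G := Equiv.Perm α) (card_sylow_perm h1 h2)
  have hcount : Nat.card {g : Equiv.Perm α // orderOf g = p} *
      ((Fintype.card α - p).factorial * p) = (Fintype.card α).factorial := by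
    have := Equiv.Perm.card_of_cycleType_mul_eq α {p}
    simp only [Multiset.sum_singleton, Multiset.prod_singleton, Multiset.toFinset_singleton,
      Finset.prod_singleton, Multiset.count_singleton_self, Nat.factorial_one, mul_one,
      Multiset.mem_singleton, forall_eq] at this
    rw [if_pos ⟨h1, hp.out.two_le⟩] at this
    rw [Nat.subtype_card ({g | g.cycleType = {p}} : Finset (Equiv.Perm α))
      (fun g => by simp [orderOf_eq_iff_cycleType h2])]
    exact this
  have hN := Sylow.card_normalizer_mul P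
  rw [Nat.card_perm, Nat.card_eq_fintype_card (α := α), ← hcount, hc] at hN
  refine Nat.eq_of_mul_eq_mul_right (Nat.card_pos (α := Sylow p (Equiv.Perm α))) ?_
  rw [hN]
  ring

/-- For odd `p` a Sylow `p`-subgroup is even. -/
theorem sylow_le_alternating (hp2 : p ≠ 2) (P : Sylow p (Equiv.Perm α)) :
    (P : Subgroup (Equiv.Perm α)) ≤ alternatingGroup α := by
  intro g hg
  rw [Equiv.Perm.mem_alternatingGroup]
  obtain ⟨k, hk⟩ := P.2 ⟨g, hg⟩
  have hgk : g ^ p ^ k = 1 := congrArg Subtype.val hk
  have hodd : Odd (p ^ k) := (hp.out.odd_of_ne_two hp2).pow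
  rcases Int.units_eq_one_or (Equiv.Perm.sign g) with h | h
  · exact h
  · exfalso
    have := congrArg Equiv.Perm.sign hgk
    rw [map_pow, map_one, h, hodd.neg_one_pow] at this
    exact absurd this (by decide)

/-- Exactly half of `N(P)` is even. -/
theorem card_normalizer_inf_alternating [Nontrivial α] (hp2 : p ≠ 2)
    (P : Sylow p (Equiv.Perm α)) :
    2 * Nat.card ↥(normalizer ((P : Subgroup (Equiv.Perm α)) : Set (Equiv.Perm α)) ⊓
      alternatingGroup α) =
      Nat.card ↥(normalizer ((P : Subgroup (Equiv.Perm α)) : Set (Equiv.Perm α))) := by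
  set N := normalizer ((P : Subgroup (Equiv.Perm α)) : Set (Equiv.Perm α)) with hN
  have hsup : N ⊔ alternatingGroup α = ⊤ :=
    P.normalizer_sup_eq_top' (sylow_le_alternating hp2 P)
  have hrel : (alternatingGroup α).relIndex N = 2 := by
    rw [← relIndex_sup_left, sup_comm, hsup, relIndex_top_right, alternatingGroup.index_eq_two]
  have h := Subgroup.card_mul_index ((alternatingGroup α).subgroupOf N)
  have h3 : Nat.card ↥((alternatingGroup α).subgroupOf N) = Nat.card ↥(N ⊓ alternatingGroup α) := by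
    rw [← inf_subgroupOf_left]
    exact Nat.card_congr (subgroupOfEquivOfLe inf_le_left).toEquiv
  rw [h3] at h
  change _ * (alternatingGroup α).relIndex N = _ at h
  rw [hrel] at h
  rw [mul_comm]
  exact h

end perm

/-- Counting the `g` that conjugate `x` into a set, class by class. -/
theorem card_conj_fiber {G : Type*} [Group G] [Finite G] (x : G) (S : G → Prop) :
    Nat.card {g : G // S (g⁻¹ * x * g)} =
      Nat.card {y : G // IsConj x y ∧ S y} * Nat.card ↥(centralizer ({x} : Set G)) := by
  classical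
  have hc : ∀ y : {y : G // IsConj x y ∧ S y}, ∃ g : G, g⁻¹ * x * g = y.1 := by
    rintro ⟨y, hy, -⟩
    obtain ⟨c, hc⟩ := isConj_iff.mp hy
    exact ⟨c⁻¹, by simpa using hc⟩
  choose r hr using hc
  let f : {y : G // IsConj x y ∧ S y} × ↥(centralizer ({x} : Set G)) →
      {g : G // S (g⁻¹ * x * g)} := fun a => ⟨a.2.1 * r a.1, by
    have hcx : x * a.2.1 = a.2.1 * x := mem_centralizer_singleton_iff.mp a.2.2 |>.symm
    have : (a.2.1 * r a.1)⁻¹ * x * (a.2.1 * r a.1) = (r a.1)⁻¹ * x * r a.1 := by
      calc _ = (r a.1)⁻¹ * (a.2.1⁻¹ * (x * a.2.1)) * r a.1 := by group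
        _ = _ := by rw [hcx]; group
    rw [this, hr]
    exact a.1.2.2⟩
  rw [← Nat.card_prod]
  refine (Nat.card_eq_of_bijective f ⟨?_, ?_⟩).symm
  · rintro ⟨y, c⟩ ⟨y', c'⟩ h
    have h' : c.1 * r y = c'.1 * r y' := congrArg Subtype.val h
    have key : ∀ (y : {y : G // IsConj x y ∧ S y}) (c : ↥(centralizer ({x} : Set G))),
        (c.1 * r y)⁻¹ * x * (c.1 * r y) = y.1 := by
      intro y c
      have hcx : x * c.1 = c.1 * x := mem_centralizer_singleton_iff.mp c.2 |>.symm
      calc _ = (r y)⁻¹ * (c.1⁻¹ * (x * c.1)) * r y := by group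
        _ = (r y)⁻¹ * x * r y := by rw [hcx]; group
        _ = _ := hr y
    have hy : y = y' := Subtype.ext (by rw [← key y c, h', key y' c'])
    subst hy
    exact Prod.ext rfl (Subtype.ext (mul_right_cancel h'))
  · rintro ⟨g, hg⟩
    have hconj : IsConj x (g⁻¹ * x * g) := isConj_iff.mpr ⟨g⁻¹, by simp⟩
    let y : {y : G // IsConj x y ∧ S y} := ⟨_, hconj, hg⟩
    refine ⟨⟨y, ⟨g * (r y)⁻¹, ?_⟩⟩, Subtype.ext ?_⟩
    · rw [mem_centralizer_singleton_iff]
      have h1 : (r y)⁻¹ * x * r y = g⁻¹ * x * g := hr y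
      calc g * (r y)⁻¹ * x = g * ((r y)⁻¹ * x * r y) * (r y)⁻¹ := by group
        _ = g * (g⁻¹ * x * g) * (r y)⁻¹ := by rw [h1]
        _ = x * (g * (r y)⁻¹) := by group
    · exact inv_mul_cancel_right g (r y)

/-- The class of `x` times its centralizer is the group. -/
theorem card_isConj_mul {G : Type*} [Group G] [Finite G] (x : G) :
    Nat.card {y : G // IsConj x y} * Nat.card ↥(centralizer ({x} : Set G)) = Nat.card G := by
  have h := card_conj_fiber x (fun _ => True)
  simp only [and_true] at h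
  rw [← h]
  exact Nat.card_congr (Equiv.subtypeUnivEquiv fun _ => trivial)

/-- A group of order 12 with four Sylow 3-subgroups has a unique Sylow 2-subgroup. -/
theorem subsingleton_sylow_two_of_twelve {G : Type*} [Group G] [Finite G] (h : Nat.card G = 12)
    (h3 : Nat.card (_root_.Sylow 3 G) ≠ 1) : Subsingleton (_root_.Sylow 2 G) := by
  classical
  have : Fact (Nat.Prime 2) := ⟨by norm_num⟩
  have : Fact (Nat.Prime 3) := ⟨by norm_num⟩
  have hn : Nat.card (_root_.Sylow 3 G) = 4 := by
    have hm := card_sylow_mem (G := G) (p := 3) (a := 1) (m := 4)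
      (by rw [h]; norm_num) (by norm_num)
    rw [show (4 : ℕ).divisors.filter (fun d => d % 3 = 1) = {1, 4} by decide] at hm
    simpa [h3] using hm
  have h8 : Nat.card {g : G // orderOf g = 3} = 8 := by
    rw [card_orderOf_eq_prime (G := G) (fun R => by
      simpa using card_sylow_eq R (a := 1) (m := 4) (by rw [h]; norm_num) (by norm_num)), hn]
  have hc2 : ∀ S : _root_.Sylow 2 G, Nat.card ↥(S : Subgroup G) = 4 := fun S => by
    simpa using card_sylow_eq S (a := 2) (m := 3) (by rw [h]; norm_num) (by norm_num)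
  have := Fintype.ofFinite G
  have key : ∀ S : _root_.Sylow 2 G, (Finset.univ.filter fun g : G => g ∈ (S : Subgroup G)) =
      Finset.univ.filter fun g : G => ¬ orderOf g = 3 := by
    intro S
    refine Finset.eq_of_subset_of_card_le ?_ ?_
    · intro g hg
      simp only [Finset.mem_filter, Finset.mem_univ, true_and] at hg ⊢
      intro hg3
      have hd : orderOf g ∣ 4 := by
        rw [← hc2 S, ← Subgroup.orderOf_mk g hg]
        exact orderOf_dvd_natCard _
      rw [hg3] at hd
      norm_num at hd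
    · have h1 := Finset.card_filter_add_card_filter_not
        (s := (Finset.univ : Finset G)) (fun g : G => orderOf g = 3)
      rw [← Fintype.card_subtype (fun g : G => orderOf g = 3), ← Nat.card_eq_fintype_card, h8,
        Finset.card_univ, ← Nat.card_eq_fintype_card, h] at h1
      rw [← Fintype.card_subtype (fun g : G => g ∈ (S : Subgroup G)), ← Nat.card_eq_fintype_card]
      have := hc2 S
      have : Nat.card {g : G // g ∈ (S : Subgroup G)} = 4 := this
      omega
  refine ⟨fun A B => _root_.Sylow.ext ?_⟩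
  ext g
  have := congrArg (fun s : Finset G => g ∈ s) ((key A).trans (key B).symm)
  simpa using this

/-- A `q`-element normalising a `p`-subgroup fixes a non-trivial element of it when
`|H| ≢ 1 (mod q)`. -/
theorem exists_commuting_of_mod {G : Type*} [Group G] [Finite G] {q : ℕ} [hq : Fact q.Prime]
    (H : Subgroup G) {x : G} (hx : x ∈ normalizer (H : Set G)) (hxq : orderOf x = q)
    (hmod : ¬ Nat.card ↥H ≡ 1 [MOD q]) : ∃ t ∈ H, t ≠ 1 ∧ Commute x t := by
  by_contra hc
  push Not at hc
  apply hmod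
  let X : Subgroup ↥(normalizer (H : Set G)) := zpowers ⟨x, hx⟩
  have hX : IsPGroup q ↥X :=
    IsPGroup.of_card (n := 1) (by rw [Nat.card_zpowers, Subgroup.orderOf_mk, hxq, pow_one])
  let φ : ↥X →* MulAut ↥H := H.normalizerMonoidHom.comp X.subtype
  let _ : MulAction ↥X ↥H := MulAction.compHom ↥H φ
  have hfix : MulAction.fixedPoints ↥X ↥H = {1} := by
    ext t
    rw [Set.mem_singleton_iff, MulAction.mem_fixedPoints]
    constructor
    · intro h
      by_contra ht
      have h1 := congrArg Subtype.val (h ⟨⟨x, hx⟩, mem_zpowers _⟩)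
      change x * (t : G) * x⁻¹ = t at h1
      exact hc t t.2 (fun e => ht (Subtype.ext e)) (mul_inv_eq_iff_eq_mul.mp h1)
    · rintro rfl m
      exact map_one (φ m)
  have h := hX.card_modEq_card_fixedPoints ↥H
  rw [hfix, Nat.card_coe_set_eq, Set.ncard_singleton] at h
  exact h

/-- The number of non-trivial elements of `p`-power order when Sylow `p`-subgroups intersect
trivially. -/
theorem card_p_elements_of_ti {G : Type*} [Group G] [Finite G] {p : ℕ} [hp : Fact p.Prime]
    (hTI : ∀ (P Q : _root_.Sylow p G) (g : G), g ∈ (P : Subgroup G) → g ∈ (Q : Subgroup G) →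
      g ≠ 1 → P = Q) :
    Nat.card {g : G // g ≠ 1 ∧ ∃ P : _root_.Sylow p G, g ∈ (P : Subgroup G)} =
      Nat.card (_root_.Sylow p G) * (p ^ (Nat.card G).factorization p - 1) := by
  classical
  have : Fintype (_root_.Sylow p G) := Fintype.ofFinite _
  let f : (Σ P : _root_.Sylow p G, {x : ↥(P : Subgroup G) // x ≠ 1}) →
      {g : G // g ≠ 1 ∧ ∃ P : _root_.Sylow p G, g ∈ (P : Subgroup G)} :=
    fun s => ⟨s.2.1.1, fun e => s.2.2 (Subtype.ext e), s.1, s.2.1.2⟩
  have hf : Function.Bijective f := by
    constructor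
    · rintro ⟨P, ⟨x, hx⟩, hx1⟩ ⟨Q, ⟨y, hy⟩, hy1⟩ h
      have hxy : x = y := congrArg Subtype.val h
      subst hxy
      have hne : x ≠ 1 := fun e => hx1 (Subtype.ext e)
      obtain rfl := hTI P Q x hx hy hne
      rfl
    · rintro ⟨g, hg1, P, hgP⟩
      exact ⟨⟨P, ⟨g, hgP⟩, fun e => hg1 (congrArg Subtype.val e)⟩, rfl⟩
  rw [← Nat.card_eq_of_bijective f hf, Nat.card_sigma]
  have : ∀ P : _root_.Sylow p G, Nat.card {x : ↥(P : Subgroup G) // x ≠ 1} =
      p ^ (Nat.card G).factorization p - 1 := by
    intro P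
    have := Fintype.ofFinite ↥(P : Subgroup G)
    rw [Nat.card_eq_fintype_card, Fintype.card_subtype_compl, Fintype.card_subtype_eq,
      ← Nat.card_eq_fintype_card, P.card_eq_multiplicity]
  simp [this, Nat.card_eq_fintype_card]

/-- `|Aut H|` divides `(|H| - 1)!`. -/
theorem card_mulAut_dvd_factorial (H : Type*) [Group H] [Finite H] :
    Nat.card (MulAut H) ∣ (Nat.card H - 1).factorial := by
  classical
  have := Fintype.ofFinite H
  let f : MulAut H →* Equiv.Perm {x : H // x ≠ 1} :=
    { toFun := fun e => e.toEquiv.subtypeEquiv (fun a => e.map_ne_one_iff.symm)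
      map_one' := by ext x; rfl
      map_mul' := fun a b => by ext x; rfl }
  have hf : Function.Injective f := by
    intro a b hab
    ext x
    by_cases hx : x = 1
    · subst hx; simp
    · exact congrArg Subtype.val (congrArg (fun e : Equiv.Perm {x : H // x ≠ 1} => e ⟨x, hx⟩) hab)
  have h := Subgroup.card_dvd_of_injective f hf
  rwa [Nat.card_perm, Nat.card_eq_fintype_card (α := {x : H // x ≠ 1}), Fintype.card_subtype_compl,
    Fintype.card_subtype_eq, ← Nat.card_eq_fintype_card] at h

/-- In a non-abelian simple group with a subgroup of index `k`, `p ≤ k < 2p`, `p ∣ |G|`: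
`2|N(P)|` divides `p(p-1)(k-p)!`. -/
theorem two_mul_normalizer_dvd {G : Type*} [Group G] [Finite G] [IsSimpleGroup G]
    (hG : ¬ IsMulCommutative G) {H : Subgroup G} (hH : H ≠ ⊤) {p : ℕ} [hp : Fact p.Prime]
    (hp2 : p ≠ 2) (h1 : p ≤ H.index) (h2 : H.index < 2 * p) (hdvd : p ∣ Nat.card G)
    (P : Sylow p G) :
    2 * Nat.card ↥(normalizer ((P : Subgroup G) : Set G)) ∣
      p * (p - 1) * (H.index - p).factorial := by
  set k := H.index with hk
  obtain ⟨f, hf⟩ := Sylow.exists_alt_embedding hG hH hk.symm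
  let g : G →* Equiv.Perm (Fin k) := (alternatingGroup (Fin k)).subtype.comp f
  have hg : Function.Injective g := Subtype.val_injective.comp hf
  have hcard : ∀ S : Subgroup G, Nat.card ↥(S.map g) = Nat.card ↥S := fun S =>
    (Nat.card_congr (S.equivMapOfInjective g hg).toEquiv).symm
  have h1' : p ≤ Fintype.card (Fin k) := by simpa using h1
  have h2' : Fintype.card (Fin k) < 2 * p := by simpa using h2
  have hpg : IsPGroup p ↥((P : Subgroup G).map g) := P.2.map g
  obtain ⟨Q, hQ⟩ := hpg.exists_le_sylow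
  have hQP : (P : Subgroup G).map g = (Q : Subgroup (Equiv.Perm (Fin k))) := by
    refine eq_of_le_of_card_ge hQ ?_
    rw [card_sylow_perm h1' h2' Q, hcard]
    exact Nat.le_of_dvd Nat.card_pos (P.dvd_card_of_dvd_card hdvd)
  have hle : (normalizer ((P : Subgroup G) : Set G)).map g ≤
      normalizer ((Q : Subgroup (Equiv.Perm (Fin k))) : Set (Equiv.Perm (Fin k))) ⊓
        alternatingGroup (Fin k) := by
    rintro x ⟨y, hy, rfl⟩
    refine ⟨?_, (f y).2⟩
    have := le_normalizer_map (H := (P : Subgroup G)) g (mem_map_of_mem g hy)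
    rwa [hQP] at this
  have : Nontrivial (Fin k) := Fin.nontrivial_iff_two_le.mpr (le_trans hp.out.two_le h1)
  have h := Nat.mul_dvd_mul_left 2 (Subgroup.card_dvd_of_le hle)
  rw [hcard, card_normalizer_inf_alternating hp2 Q, card_normalizer_perm h1' h2' Q,
    Fintype.card_fin] at h
  exact h

end Cfsg.Agent.Lib.SmallGroups.Counting
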