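import Mathlib
import Cfsg.Agent.Lib.Linear.Order

/-!
# `PSL(2,F)` as a permutation group of the projective line

`mulEquiv_of_generators`: a subgroup of `Perm (OnePoint F)` of order `|PSL(2,F)|` containing the
translations, the square dilations and `x ↦ -1/x` is isomorphic to `PSL(2,F)`.
-/

set_option autoImplicit false

namespace Cfsg.Agent.Lib.SmallGroups.ProjLine

open Matrix OnePoint

universe u v

variable {F : Type u} [Field F] [DecidableEq F]

/-- The permutation of the projective line given by a matrix of determinant one. -/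
def toPerm : Matrix.SpecialLinearGroup (Fin 2) F →* Equiv.Perm (OnePoint F) :=
  (MulAction.toPermHom (GL (Fin 2) F) (OnePoint F)).comp Matrix.SpecialLinearGroup.toGL

theorem det_eq (g : Matrix.SpecialLinearGroup (Fin 2) F) :
    g.1 0 0 * g.1 1 1 - g.1 0 1 * g.1 1 0 = 1 := by
  have h := g.2
  rwa [Matrix.det_fin_two] at h

theorem toPerm_infty (g : Matrix.SpecialLinearGroup (Fin 2) F) :
    toPerm g ∞ = if g.1 1 0 = 0 then ∞ else ((g.1 0 0 / g.1 1 0 : F) : OnePoint F) :=
  smul_infty_eq_ite _

theorem toPerm_coe (g : Matrix.SpecialLinearGroup (Fin 2) F) (x : F) :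
    toPerm g (x : OnePoint F) = if g.1 1 0 * x + g.1 1 1 = 0 then ∞
      else (((g.1 0 0 * x + g.1 0 1) / (g.1 1 0 * x + g.1 1 1) : F) : OnePoint F) :=
  smul_some_eq_ite

theorem ker_toPerm :
    (toPerm (F := F)).ker = Subgroup.center (Matrix.SpecialLinearGroup (Fin 2) F) := by
  ext g
  rw [MonoidHom.mem_ker, Matrix.SpecialLinearGroup.mem_center_iff]
  have hd := det_eq g
  constructor
  · intro h
    have h1 : toPerm g ∞ = ∞ := by rw [h]; rfl
    have h0 : toPerm g ((0 : F) : OnePoint F) = ((0 : F) : OnePoint F) := by rw [h]; rfl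
    have h1' : toPerm g ((1 : F) : OnePoint F) = ((1 : F) : OnePoint F) := by rw [h]; rfl
    rw [toPerm_infty] at h1
    have hc : g.1 1 0 = 0 := by
      by_contra hc
      rw [if_neg hc] at h1
      exact coe_ne_infty _ h1
    rw [hc, mul_zero, sub_zero] at hd
    have h11 : g.1 1 1 ≠ 0 := fun e => by simp [e] at hd
    rw [toPerm_coe, hc] at h0 h1'
    simp [h11] at h0 h1'
    rw [h0, add_zero, div_eq_one_iff_eq h11] at h1'
    refine ⟨g.1 0 0, ?_, ?_⟩
    · rw [Fintype.card_fin, pow_two]
      nth_rw 2 [h1']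
      exact hd
    · ext i j
      fin_cases i <;> fin_cases j <;> simp [hc, h0, h1']
  · rintro ⟨r, hr, hg⟩
    have hr0 : r ≠ 0 := fun e => by simp [e] at hr
    have e00 : g.1 0 0 = r := by rw [← hg]; simp
    have e01 : g.1 0 1 = 0 := by rw [← hg]; simp
    have e10 : g.1 1 0 = 0 := by rw [← hg]; simp
    have e11 : g.1 1 1 = r := by rw [← hg]; simp
    ext x
    induction x using OnePoint.rec with
    | infty => simp [toPerm_infty, e10]
    | coe x => simp [toPerm_coe, e00, e01, e10, e11, hr0]

variable (F) in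
/-- `PSL(2,F)` is its image in the permutations of the projective line. -/
noncomputable def rangeEquiv :
    Matrix.ProjectiveSpecialLinearGroup (Fin 2) F ≃* ↥(toPerm (F := F)).range :=
  (QuotientGroup.quotientMulEquivOfEq ker_toPerm.symm).trans
    (QuotientGroup.quotientKerEquivRange toPerm)

theorem card_range [Finite F] :
    Nat.card ↥(toPerm (F := F)).range =
      Nat.card (Matrix.ProjectiveSpecialLinearGroup (Fin 2) F) :=
  (Nat.card_congr (rangeEquiv F).toEquiv).symm

/-- Translation by `b`. -/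
def transMat (b : F) : Matrix.SpecialLinearGroup (Fin 2) F :=
  ⟨!![1, b; 0, 1], by simp [Matrix.det_fin_two_of]⟩

/-- The dilation by `a * a`. -/
def dilMat (a : F) (ha : a ≠ 0) : Matrix.SpecialLinearGroup (Fin 2) F :=
  ⟨!![a, 0; 0, a⁻¹], by simp [Matrix.det_fin_two_of, ha]⟩

/-- The map `x ↦ -1/x`. -/
def invMat : Matrix.SpecialLinearGroup (Fin 2) F :=
  ⟨!![0, -1; 1, 0], by simp [Matrix.det_fin_two_of]⟩

theorem toPerm_trans_infty (b : F) : toPerm (transMat b) ∞ = ∞ := by
  rw [toPerm_infty]; simp [transMat]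

theorem toPerm_trans_coe (b x : F) :
    toPerm (transMat b) (x : OnePoint F) = ((x + b : F) : OnePoint F) := by
  rw [toPerm_coe]; simp [transMat]

theorem toPerm_dil_infty (a : F) (ha : a ≠ 0) : toPerm (dilMat a ha) ∞ = ∞ := by
  rw [toPerm_infty]; simp [dilMat]

theorem toPerm_dil_coe (a : F) (ha : a ≠ 0) (x : F) :
    toPerm (dilMat a ha) (x : OnePoint F) = ((a * a * x : F) : OnePoint F) := by
  rw [toPerm_coe]; simp [dilMat, ha]
  ring

theorem toPerm_inv_infty : toPerm (invMat (F := F)) ∞ = ((0 : F) : OnePoint F) := by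
  rw [toPerm_infty]; simp [invMat]

theorem toPerm_inv_zero : toPerm (invMat (F := F)) ((0 : F) : OnePoint F) = ∞ := by
  rw [toPerm_coe]; simp [invMat]

theorem toPerm_inv_coe {x : F} (hx : x ≠ 0) :
    toPerm (invMat (F := F)) (x : OnePoint F) = ((-x⁻¹ : F) : OnePoint F) := by
  rw [toPerm_coe]; simp [invMat, hx, neg_div]

theorem decomp_ne_zero (g : Matrix.SpecialLinearGroup (Fin 2) F) (hc : g.1 1 0 ≠ 0) :
    g = transMat (g.1 0 0 / g.1 1 0) * invMat * dilMat (g.1 1 0) hc *
      transMat (g.1 1 1 / g.1 1 0) := by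
  have hd := det_eq g
  apply Subtype.ext
  rw [Matrix.SpecialLinearGroup.coe_mul, Matrix.SpecialLinearGroup.coe_mul,
    Matrix.SpecialLinearGroup.coe_mul]
  simp only [transMat, invMat, dilMat]
  ext i j
  fin_cases i <;> fin_cases j <;>
    simp [Matrix.mul_apply, Fin.sum_univ_two] <;> field_simp <;> linear_combination -hd

theorem decomp_zero (g : Matrix.SpecialLinearGroup (Fin 2) F) (hc : g.1 1 0 = 0) :
    ∃ (a : F) (ha : a ≠ 0) (b : F), g = dilMat a ha * transMat b := by
  have hd := det_eq g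
  rw [hc, mul_zero, sub_zero] at hd
  have ha : g.1 0 0 ≠ 0 := fun e => by simp [e] at hd
  refine ⟨g.1 0 0, ha, g.1 0 1 / g.1 0 0, ?_⟩
  apply Subtype.ext
  rw [Matrix.SpecialLinearGroup.coe_mul]
  simp only [transMat, dilMat]
  ext i j
  fin_cases i <;> fin_cases j <;> simp [Matrix.mul_apply, Fin.sum_univ_two, hc, ha]
  · field_simp
  · exact eq_inv_of_mul_eq_one_right hd

/-- Recognition of `PSL(2,F)` on the projective line. -/
theorem mulEquiv_of_generators [Finite F] (H : Subgroup (Equiv.Perm (OnePoint F)))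
    (hcard : Nat.card ↥H = Nat.card (Matrix.ProjectiveSpecialLinearGroup (Fin 2) F))
    (hT : ∀ b : F, ∃ h ∈ H, h ∞ = ∞ ∧ ∀ x : F, h (x : OnePoint F) = ((x + b : F) : OnePoint F))
    (hD : ∀ a : F, a ≠ 0 → ∃ h ∈ H, h ∞ = ∞ ∧
      ∀ x : F, h (x : OnePoint F) = ((a * a * x : F) : OnePoint F))
    (hW : ∃ h ∈ H, h ∞ = ((0 : F) : OnePoint F) ∧ h ((0 : F) : OnePoint F) = ∞ ∧
      ∀ x : F, x ≠ 0 → h (x : OnePoint F) = ((-x⁻¹ : F) : OnePoint F)) :
    Nonempty (↥H ≃* Matrix.ProjectiveSpecialLinearGroup (Fin 2) F) := by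
  have hTm : ∀ b : F, toPerm (transMat b) ∈ H := by
    intro b
    obtain ⟨h, hh, h1, h2⟩ := hT b
    have : toPerm (transMat b) = h := by
      ext x
      induction x using OnePoint.rec with
      | infty => rw [toPerm_trans_infty, h1]
      | coe x => rw [toPerm_trans_coe, h2]
    rwa [this]
  have hDm : ∀ (a : F) (ha : a ≠ 0), toPerm (dilMat a ha) ∈ H := by
    intro a ha
    obtain ⟨h, hh, h1, h2⟩ := hD a ha
    have : toPerm (dilMat a ha) = h := by
      ext x
      induction x using OnePoint.rec with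
      | infty => rw [toPerm_dil_infty, h1]
      | coe x => rw [toPerm_dil_coe, h2]
    rwa [this]
  have hWm : toPerm (invMat (F := F)) ∈ H := by
    obtain ⟨h, hh, h1, h0, h2⟩ := hW
    have : toPerm (invMat (F := F)) = h := by
      ext x
      induction x using OnePoint.rec with
      | infty => rw [toPerm_inv_infty, h1]
      | coe x =>
        by_cases hx : x = 0
        · subst hx; rw [toPerm_inv_zero, h0]
        · rw [toPerm_inv_coe hx, h2 x hx]
    rwa [this]
  have hle : (toPerm (F := F)).range ≤ H := by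
    rintro _ ⟨g, rfl⟩
    by_cases hc : g.1 1 0 = 0
    · obtain ⟨a, ha, b, rfl⟩ := decomp_zero g hc
      rw [map_mul]
      exact mul_mem (hDm a ha) (hTm b)
    · rw [decomp_ne_zero g hc, map_mul, map_mul, map_mul]
      exact mul_mem (mul_mem (mul_mem (hTm _) hWm) (hDm _ hc)) (hTm _)
  have := Fintype.ofFinite F
  have heq : (toPerm (F := F)).range = H :=
    Subgroup.eq_of_le_of_card_ge hle (by rw [hcard, card_range])
  exact ⟨((rangeEquiv F).trans (MulEquiv.subgroupCongr heq)).symm⟩

omit [DecidableEq F] in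
/-- Isomorphic fields give isomorphic groups. -/
theorem psl_congr {F' : Type v} [Field F'] (e : F ≃+* F') :
    Nonempty (Matrix.ProjectiveSpecialLinearGroup (Fin 2) F ≃*
      Matrix.ProjectiveSpecialLinearGroup (Fin 2) F') := by
  let f : Matrix.SpecialLinearGroup (Fin 2) F ≃* Matrix.SpecialLinearGroup (Fin 2) F' :=
    { toFun := Matrix.SpecialLinearGroup.map e.toRingHom
      invFun := Matrix.SpecialLinearGroup.map e.symm.toRingHom
      left_inv := fun g => by ext i j; simp
      right_inv := fun g => by ext i j; simp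
      map_mul' := map_mul _ }
  refine ⟨QuotientGroup.congr (Subgroup.center _) (Subgroup.center _) f ?_⟩
  refine le_antisymm ?_ ?_
  · rintro _ ⟨x, hx, rfl⟩
    rw [Subgroup.mem_center_iff]
    intro y
    have h1 := Subgroup.mem_center_iff.mp hx (f.symm y)
    have h2 := congrArg f h1
    rw [map_mul, map_mul, f.apply_symm_apply] at h2
    exact h2
  · intro y hy
    refine ⟨f.symm y, Subgroup.mem_center_iff.mpr fun x => f.injective ?_, f.apply_symm_apply y⟩
    rw [map_mul, map_mul, f.apply_symm_apply]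
    exact Subgroup.mem_center_iff.mp hy (f x)

omit [DecidableEq F] in
/-- Finite fields of the same order give isomorphic groups. -/
theorem psl_congr_card [Fintype F] {F' : Type v} [Field F'] [Fintype F']
    (h : Fintype.card F = Fintype.card F') :
    Nonempty (Matrix.ProjectiveSpecialLinearGroup (Fin 2) F ≃*
      Matrix.ProjectiveSpecialLinearGroup (Fin 2) F') :=
  psl_congr (FiniteField.ringEquivOfCardEq h)

end Cfsg.Agent.Lib.SmallGroups.ProjLine
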