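import Mathlib
import Cfsg.Agent.Lib.SmallGroups.Sylow

/-!
# Groups of order 24 without elements of order 6
-/

set_option autoImplicit false

namespace Cfsg.Agent.Lib.SmallGroups.Order24

open Subgroup Cfsg.Agent.Lib.SmallGroups.Sylow

theorem orderOf_mul_six {G : Type*} [Group G] {x y : G} (hx : orderOf x = 3) (hy : orderOf y = 2)
    (h : Commute x y) : orderOf (x * y) = 6 := by
  rw [h.orderOf_mul_eq_mul_orderOf_of_coprime (by rw [hx, hy]; norm_num), hx, hy]

/-- A group of order 24 with no element of order 6 is `S₄`. -/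
theorem mulEquiv_perm_four {G : Type*} [Group G] [Finite G] (h : Nat.card G = 24)
    (h6 : ∀ g : G, orderOf g ≠ 6) : Nonempty (G ≃* Equiv.Perm (Fin 4)) := by
  classical
  have : Fact (Nat.Prime 3) := ⟨by norm_num⟩
  have : Fact (Nat.Prime 2) := ⟨by norm_num⟩
  have hcard : ∀ P : Sylow 3 G, Nat.card ↥(P : Subgroup G) = 3 := fun P => by
    simpa using card_sylow_eq P (a := 1) (m := 8) (by rw [h]; norm_num) (by norm_num)
  -- no involution centralises a Sylow 3-subgroup
  have hC : ∀ P : Sylow 3 G, ¬ 2 ∣ Nat.card ↥(centralizer ((P : Subgroup G) : Set G)) := by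
    intro P h2
    obtain ⟨⟨y, hy⟩, hy2⟩ := exists_prime_orderOf_dvd_card' 2 h2
    obtain ⟨⟨x, hx⟩, hx3⟩ := exists_prime_orderOf_dvd_card' (G := ↥(P : Subgroup G)) 3
      (by rw [hcard P])
    rw [orderOf_mk] at hy2 hx3
    exact h6 (x * y) (orderOf_mul_six hx3 hy2 (hy x hx))
  have hN : ∀ P : Sylow 3 G,
      Nat.card ↥(normalizer ((P : Subgroup G) : Set G)) * Nat.card (Sylow 3 G) = 24 :=
    fun P => by rw [card_normalizer_mul P, h]
  have hn : Nat.card (Sylow 3 G) = 4 := by
    have hmem := card_sylow_mem (G := G) (p := 3) (a := 1) (m := 8)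
      (by rw [h]; norm_num) (by norm_num)
    rw [show (8 : ℕ).divisors.filter (fun d => d % 3 = 1) = {1, 4} by decide] at hmem
    simp only [Finset.mem_insert, Finset.mem_singleton] at hmem
    refine hmem.resolve_left fun h1 => ?_
    let P : Sylow 3 G := default
    apply hC P
    have hmul := card_centralizer_mul_relIndex (P : Subgroup G)
    have hd := relIndex_dvd_card_mulAut (P : Subgroup G)
    have hc : IsCyclic ↥(P : Subgroup G) := isCyclic_of_prime_card (hcard P)
    rw [IsCyclic.card_mulAut, hcard P, Nat.totient_prime (by norm_num : Nat.Prime 3)] at hd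
    have := hN P
    rw [h1, mul_one] at this
    rw [this] at hmul
    have hle := Nat.le_of_dvd (by norm_num) hd
    generalize (centralizer ((P : Subgroup G) : Set G)).relIndex
      (normalizer ((P : Subgroup G) : Set G)) = e at hmul hle hd
    interval_cases e <;> omega
  let f : G →* Equiv.Perm (Sylow 3 G) := MulAction.toPermHom G (Sylow 3 G)
  have hinj : Function.Injective f := by
    rw [← MonoidHom.ker_eq_bot_iff]
    have hle : ∀ P : Sylow 3 G, f.ker ≤ normalizer ((P : Subgroup G) : Set G) := by
      intro P g hg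
      exact _root_.Sylow.smul_eq_iff_mem_normalizer.mp
        (congrArg (fun e : Equiv.Perm (Sylow 3 G) => e P) (MonoidHom.mem_ker.mp hg))
    let P : Sylow 3 G := default
    have hN6 : Nat.card ↥(normalizer ((P : Subgroup G) : Set G)) = 6 := by
      have := hN P; rw [hn] at this; omega
    have hd : Nat.card ↥f.ker ∣ 6 := hN6 ▸ Subgroup.card_dvd_of_le (hle P)
    by_contra hne
    have h3 : ¬ 3 ∣ Nat.card ↥f.ker := by
      intro h3
      -- then the kernel contains every element of order 3
      obtain ⟨Q, hQ⟩ : ∃ Q : Sylow 3 G, (Q : Subgroup G) ≤ f.ker := by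
        obtain ⟨⟨x, hx⟩, hx3⟩ := exists_prime_orderOf_dvd_card' 3 h3
        rw [orderOf_mk] at hx3
        have hp : IsPGroup 3 ↥(zpowers x) :=
          IsPGroup.of_card (n := 1) (by rw [Nat.card_zpowers, hx3, pow_one])
        obtain ⟨Q, hQ⟩ := hp.exists_le_sylow
        refine ⟨Q, ?_⟩
        have heq : zpowers x = (Q : Subgroup G) :=
          eq_of_le_of_card_ge hQ (by rw [Nat.card_zpowers, hx3, hcard Q])
        rw [← heq]
        exact zpowers_le.mpr hx
      have hall : ∀ R : Sylow 3 G, (R : Subgroup G) ≤ normalizer ((P : Subgroup G) : Set G) := by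
        intro R
        obtain ⟨g, rfl⟩ := MulAction.exists_smul_eq G Q R
        refine le_trans ?_ (hle P)
        intro x hx
        rw [_root_.Sylow.coe_subgroup_smul, mem_pointwise_smul_iff_inv_smul_mem] at hx
        have := Subgroup.Normal.conj_mem (inferInstance : f.ker.Normal) _ (hQ hx) g
        simpa [MulAut.smul_def, mul_assoc] using this
      have : Subsingleton (Sylow 3 G) := by
        constructor
        intro R S
        have key : ∀ R : Sylow 3 G, (R : Subgroup G) = (P : Subgroup G) := fun R => by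
          refine eq_of_le_of_card_ge ?_ (by rw [hcard, hcard])
          intro x hx
          have : x ∈ (R : Subgroup G) ⊓ normalizer ((P : Subgroup G) : Set G) := ⟨hx, hall R hx⟩
          exact ((R.2.inf_normalizer_sylow P).le this).2
        exact _root_.Sylow.ext ((key R).trans (key S).symm)
      rw [Nat.card_unique] at hn
      norm_num at hn
    have hK2 : Nat.card ↥f.ker = 2 := by
      have hle6 := Nat.le_of_dvd (by norm_num) hd
      have h1 : Nat.card ↥f.ker ≠ 1 := fun h1 => hne (Subgroup.card_eq_one.mp h1)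
      have h0 := Nat.card_pos (α := ↥f.ker)
      interval_cases Nat.card ↥f.ker <;> omega
    -- a normal subgroup of order 2 is central
    apply hC P
    rw [← hK2]
    apply Subgroup.card_dvd_of_le
    intro k hk x hx
    by_cases hk1 : k = 1
    · simp [hk1]
    obtain ⟨y, -, huniq⟩ := (Nat.card_eq_two_iff' (1 : ↥f.ker)).mp hK2
    have hconj : x * k * x⁻¹ ∈ f.ker := Subgroup.Normal.conj_mem inferInstance k hk x
    have hcne : x * k * x⁻¹ ≠ 1 := by simpa using hk1
    have : (⟨x * k * x⁻¹, hconj⟩ : ↥f.ker) = ⟨k, hk⟩ :=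
      (huniq _ fun e => hcne (congrArg Subtype.val e)).trans
        (huniq _ fun e => hk1 (congrArg Subtype.val e)).symm
    exact mul_inv_eq_iff_eq_mul.mp (congrArg Subtype.val this)
  have hcp : Nat.card (Equiv.Perm (Sylow 3 G)) = 24 := by rw [Nat.card_perm, hn]; rfl
  let e : G ≃* Equiv.Perm (Sylow 3 G) :=
    MulEquiv.ofBijective f ((Nat.bijective_iff_injective_and_card f).mpr ⟨hinj, by rw [h, hcp]⟩)
  exact ⟨e.trans (Finite.equivFinOfCardEq hn).permCongrHom⟩

end Cfsg.Agent.Lib.SmallGroups.Order24
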