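import Mathlib
import Cfsg.Agent.Lib.SmallGroups.Counting
import Cfsg.Agent.Lib.SmallGroups.Order24
import Cfsg.Agent.Lib.Involutions.Basic

/-!
# The simple group of order 168: Sylow numbers, classes, centralisers
-/

set_option autoImplicit false

namespace Cfsg.Agent.Lib.SmallGroups.Order168

open Subgroup Cfsg.Agent.Lib.SmallGroups.Sylow Cfsg.Agent.Lib.SmallGroups.Counting

variable {G : Type*} [Group G] [Finite G] [IsSimpleGroup G]

theorem not_comm (h : Nat.card G = 168) : ¬ IsMulCommutative G :=
  not_comm_of_card (by rw [h]; norm_num)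

theorem card_sylow7 (h : Nat.card G = 168) : Nat.card (Sylow 7 G) = 8 := by
  have : Fact (Nat.Prime 7) := ⟨by norm_num⟩
  have hne := card_sylow_ne_one (G := G) (p := 7) (a := 1) (m := 24)
    (by rw [h]; norm_num) (by norm_num) one_ne_zero (by norm_num)
  have hmem := card_sylow_mem (G := G) (p := 7) (a := 1) (m := 24)
    (by rw [h]; norm_num) (by norm_num)
  rw [show (24 : ℕ).divisors.filter (fun d => d % 7 = 1) = {1, 8} by decide] at hmem
  simpa [hne] using hmem

theorem card_of_sylow7 (h : Nat.card G = 168) (Q : Sylow 7 G) :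
    Nat.card ↥(Q : Subgroup G) = 7 := by
  have : Fact (Nat.Prime 7) := ⟨by norm_num⟩
  simpa using card_sylow_eq Q (a := 1) (m := 24) (by rw [h]; norm_num) (by norm_num)

theorem card_of_sylow3 (h : Nat.card G = 168) (P : Sylow 3 G) :
    Nat.card ↥(P : Subgroup G) = 3 := by
  have : Fact (Nat.Prime 3) := ⟨by norm_num⟩
  simpa using card_sylow_eq P (a := 1) (m := 56) (by rw [h]; norm_num) (by norm_num)

theorem card_of_sylow2 (h : Nat.card G = 168) (T : Sylow 2 G) :
    Nat.card ↥(T : Subgroup G) = 8 := by
  have : Fact (Nat.Prime 2) := ⟨by norm_num⟩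
  simpa using card_sylow_eq T (a := 3) (m := 21) (by rw [h]; norm_num) (by norm_num)

theorem card_normalizer7 (h : Nat.card G = 168) (Q : Sylow 7 G) :
    Nat.card ↥(normalizer ((Q : Subgroup G) : Set G)) = 21 := by
  have : Fact (Nat.Prime 7) := ⟨by norm_num⟩
  have := card_normalizer_mul Q
  rw [card_sylow7 h, h] at this
  omega

theorem card_centralizer7 (h : Nat.card G = 168) (Q : Sylow 7 G) :
    Nat.card ↥(centralizer ((Q : Subgroup G) : Set G)) = 7 := by
  have : Fact (Nat.Prime 7) := ⟨by norm_num⟩
  obtain ⟨e, c, he, he1, hc, hcard, hce⟩ :=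
    exists_normalizer_factor (not_comm h) Q (card_of_sylow7 h Q)
  rw [card_normalizer7 h] at hce
  rw [hcard]
  have hle : e ≤ 6 := Nat.le_of_dvd (by norm_num) he
  obtain ⟨c', rfl⟩ := hc
  interval_cases e <;> omega

theorem card_sylow3 (h : Nat.card G = 168) : Nat.card (Sylow 3 G) = 28 := by
  have : Fact (Nat.Prime 3) := ⟨by norm_num⟩
  have : Fact (Nat.Prime 7) := ⟨by norm_num⟩
  have hG := not_comm h
  have hne := card_sylow_ne_one (G := G) (p := 3) (a := 1) (m := 56)
    (by rw [h]; norm_num) (by norm_num) one_ne_zero (by norm_num)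
  have hmem := card_sylow_mem (G := G) (p := 3) (a := 1) (m := 56)
    (by rw [h]; norm_num) (by norm_num)
  have hfac := two_mul_card_dvd_sylow_factorial hG hne
  rw [show (56 : ℕ).divisors.filter (fun d => d % 3 = 1) = {1, 4, 7, 28} by decide] at hmem
  simp only [Finset.mem_insert, Finset.mem_singleton] at hmem
  rcases hmem with h1 | h1 | h1 | h1
  · exact absurd h1 hne
  · rw [h1, h] at hfac; norm_num [Nat.factorial] at hfac
  · exfalso
    -- all 14 elements of order 3 would lie in the normalizer of a Sylow 7-subgroup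
    let Q : Sylow 7 G := default
    set N := normalizer ((Q : Subgroup G) : Set G) with hN
    have hNc : Nat.card ↥N = 21 := card_normalizer7 h Q
    have h3G : Nat.card {g : G // orderOf g = 3} = 14 := by
      rw [card_orderOf_eq_prime (card_of_sylow3 h), h1]
    have hN3 : ∀ R : Sylow 3 ↥N, Nat.card ↥(R : Subgroup ↥N) = 3 := fun R => by
      simpa using card_sylow_eq R (a := 1) (m := 7) (by rw [hNc]; norm_num) (by norm_num)
    have hn3 : Nat.card (Sylow 3 ↥N) ≠ 1 := by
      intro h3
      let R : Sylow 3 ↥N := default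
      have : Subsingleton (Sylow 3 ↥N) := (Nat.card_eq_one_iff_unique.mp h3).1
      have hRn : (R : Subgroup ↥N).Normal := R.normal_of_subsingleton
      let P : Sylow 3 G := Sylow.ofCard ((R : Subgroup ↥N).map N.subtype) (by
        rw [← Nat.card_congr ((R : Subgroup ↥N).equivMapOfInjective _ N.subtype_injective).toEquiv,
          hN3 R]
        exact (card_of_sylow3 h (default : Sylow 3 G)).symm.trans
          (default : Sylow 3 G).card_eq_multiplicity)
      have hle : N ≤ normalizer ((P : Subgroup G) : Set G) := by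
        have h1 := le_normalizer_map (H := (R : Subgroup ↥N)) N.subtype
        rw [normalizer_eq_top, ← MonoidHom.range_eq_map, range_subtype] at h1
        exact h1
      have hd := Subgroup.card_dvd_of_le hle
      have := card_normalizer_mul P
      rw [h1, h] at this
      rw [hNc, show Nat.card ↥(normalizer ((P : Subgroup G) : Set G)) = 24 by omega] at hd
      norm_num at hd
    have hn7 : Nat.card (Sylow 3 ↥N) = 7 := by
      have hm := card_sylow_mem (G := ↥N) (p := 3) (a := 1) (m := 7)
        (by rw [hNc]; norm_num) (by norm_num)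
      rw [show (7 : ℕ).divisors.filter (fun d => d % 3 = 1) = {1, 7} by decide] at hm
      simpa [hn3] using hm
    have h3N : Nat.card {g : ↥N // orderOf g = 3} = 14 := by
      rw [card_orderOf_eq_prime hN3, hn7]
    let f : {g : ↥N // orderOf g = 3} → {g : G // orderOf g = 3} :=
      fun g => ⟨g.1.1, (Subgroup.orderOf_coe g.1).trans g.2⟩
    have hf : Function.Bijective f := (Nat.bijective_iff_injective_and_card f).mpr
      ⟨fun a b hab => Subtype.ext (Subtype.ext (congrArg (fun x => x.1) hab)), by rw [h3N, h3G]⟩
    have hall : ∀ g : G, orderOf g = 3 → g ∈ N := by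
      intro g hg
      obtain ⟨a, ha⟩ := hf.2 ⟨g, hg⟩
      rw [← show a.1.1 = g from congrArg Subtype.val ha]
      exact a.1.2
    set K := closure {g : G | orderOf g = 3} with hK
    have hKN : K ≤ N := (closure_le N).mpr hall
    have hKn : K.Normal := by
      refine ⟨fun x hx g => ?_⟩
      have hmap : K.map (MulAut.conj g).toMonoidHom ≤ K := by
        rw [hK, MonoidHom.map_closure]
        refine closure_mono ?_
        rintro _ ⟨y, hy, rfl⟩
        exact ((MulAut.conj g).orderOf_eq y).trans hy
      exact hmap ⟨x, hx, rfl⟩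
    obtain ⟨⟨g, hg⟩⟩ : Nonempty {g : G // orderOf g = 3} :=
      (Nat.card_ne_zero.mp (by rw [h3G]; norm_num)).1
    rcases IsSimpleGroup.eq_bot_or_eq_top_of_normal K hKn with hb | hb
    · have : g ∈ K := subset_closure hg
      rw [hb, Subgroup.mem_bot] at this
      subst this
      simp at hg
    · rw [hb, top_le_iff] at hKN
      rw [hKN, Subgroup.card_top, h] at hNc
      norm_num at hNc
  · exact h1

theorem card_normalizer3 (h : Nat.card G = 168) (P : Sylow 3 G) :
    Nat.card ↥(normalizer ((P : Subgroup G) : Set G)) = 6 := by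
  have : Fact (Nat.Prime 3) := ⟨by norm_num⟩
  have := card_normalizer_mul P
  rw [card_sylow3 h, h] at this
  omega

theorem card_centralizer3 (h : Nat.card G = 168) (P : Sylow 3 G) :
    Nat.card ↥(centralizer ((P : Subgroup G) : Set G)) = 3 := by
  have : Fact (Nat.Prime 3) := ⟨by norm_num⟩
  obtain ⟨e, c, he, he1, -, hcard, hce⟩ :=
    exists_normalizer_factor (not_comm h) P (card_of_sylow3 h P)
  rw [card_normalizer3 h] at hce
  rw [hcard]
  have hle : e ≤ 2 := Nat.le_of_dvd (by norm_num) he
  interval_cases e <;> omega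

omit [IsSimpleGroup G] in
/-- If the centralizer of every Sylow `p`-subgroup has order `p`, an element of order divisible by
`p` has order `p` and is self-centralizing. -/
theorem of_dvd {p : ℕ} [hp : Fact p.Prime] (hP : ∀ P : Sylow p G, Nat.card ↥(P : Subgroup G) = p)
    (hC : ∀ P : Sylow p G, Nat.card ↥(centralizer ((P : Subgroup G) : Set G)) = p)
    {g : G} (hg : p ∣ orderOf g) :
    orderOf g = p ∧ Nat.card ↥(centralizer ({g} : Set G)) = p := by
  set y := g ^ (orderOf g / p) with hy
  have hyo : orderOf y = p := orderOf_pow_orderOf_div (orderOf_pos g).ne' hg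
  obtain ⟨P, hPy⟩ := (IsPGroup.of_card (n := 1)
    (by rw [Nat.card_zpowers, hyo, pow_one]) : IsPGroup p ↥(zpowers y)).exists_le_sylow
  have heq : zpowers y = (P : Subgroup G) :=
    eq_of_le_of_card_ge hPy (by rw [hP, Nat.card_zpowers, hyo])
  have hle : centralizer ({g} : Set G) ≤ centralizer ((P : Subgroup G) : Set G) := by
    intro c hc
    rw [mem_centralizer_singleton_iff] at hc
    rw [← heq]
    intro v hv
    obtain ⟨k, rfl⟩ := mem_zpowers_iff.mp hv
    exact (((show Commute c g from hc).pow_right _).zpow_right k).symm.eq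
  have hgm : zpowers g ≤ centralizer ({g} : Set G) :=
    zpowers_le.mpr (mem_centralizer_singleton_iff.mpr rfl)
  have hd : orderOf g ∣ p := by
    rw [← Nat.card_zpowers, ← hC P]
    exact Subgroup.card_dvd_of_le (hgm.trans hle)
  have hgo := Nat.dvd_antisymm hd hg
  refine ⟨hgo, le_antisymm ((Nat.le_of_dvd Nat.card_pos (Subgroup.card_dvd_of_le hle)).trans
    (hC P).le) ?_⟩
  have h5 := Nat.le_of_dvd Nat.card_pos (Subgroup.card_dvd_of_le hgm)
  rwa [Nat.card_zpowers, hgo] at h5

/-- Orders are `3`, `7`, or divide `8`; the first two kinds are self-centralizing. -/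
theorem order_cases (h : Nat.card G = 168) (g : G) :
    (orderOf g = 3 ∧ Nat.card ↥(centralizer ({g} : Set G)) = 3) ∨
      (orderOf g = 7 ∧ Nat.card ↥(centralizer ({g} : Set G)) = 7) ∨ orderOf g ∣ 8 := by
  have : Fact (Nat.Prime 3) := ⟨by norm_num⟩
  have : Fact (Nat.Prime 7) := ⟨by norm_num⟩
  by_cases h3 : 3 ∣ orderOf g
  · exact Or.inl (of_dvd (card_of_sylow3 h) (card_centralizer3 h) h3)
  by_cases h7 : 7 ∣ orderOf g
  · exact Or.inr (Or.inl (of_dvd (card_of_sylow7 h) (card_centralizer7 h) h7))
  refine Or.inr (Or.inr ?_)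
  have h8 : orderOf g ∣ 8 * 21 := by
    have h1 := orderOf_dvd_natCard g
    rwa [h] at h1
  refine Nat.Coprime.dvd_of_dvd_mul_right ?_ h8
  rw [show (21 : ℕ) = 3 * 7 by norm_num, Nat.coprime_mul_iff_right]
  exact ⟨((Nat.Prime.coprime_iff_not_dvd (by norm_num)).mpr h3).symm,
    ((Nat.Prime.coprime_iff_not_dvd (by norm_num)).mpr h7).symm⟩

theorem card_order3 (h : Nat.card G = 168) : Nat.card {g : G // orderOf g = 3} = 56 := by
  have : Fact (Nat.Prime 3) := ⟨by norm_num⟩
  rw [card_orderOf_eq_prime (card_of_sylow3 h), card_sylow3 h]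

theorem card_order7 (h : Nat.card G = 168) : Nat.card {g : G // orderOf g = 7} = 48 := by
  have : Fact (Nat.Prime 7) := ⟨by norm_num⟩
  rw [card_orderOf_eq_prime (card_of_sylow7 h), card_sylow7 h]

theorem card_two_elements (h : Nat.card G = 168) :
    Nat.card {g : G // g ≠ 1 ∧ orderOf g ∣ 8} = 63 := by
  classical
  have := Fintype.ofFinite G
  have hu : (Finset.univ : Finset G) = insert 1 (Finset.univ.filter (fun g => orderOf g = 3) ∪
      (Finset.univ.filter (fun g => orderOf g = 7) ∪
        Finset.univ.filter (fun g => g ≠ 1 ∧ orderOf g ∣ 8))) := by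
    ext g
    simp only [Finset.mem_univ, Finset.mem_insert, Finset.mem_union, Finset.mem_filter, true_and,
      true_iff]
    rcases order_cases h g with h1 | h1 | h1
    · exact Or.inr (Or.inl h1.1)
    · exact Or.inr (Or.inr (Or.inl h1.1))
    · by_cases hg : g = 1
      · exact Or.inl hg
      · exact Or.inr (Or.inr (Or.inr ⟨hg, h1⟩))
  have hd1 : Disjoint (Finset.univ.filter (fun g : G => orderOf g = 7))
      (Finset.univ.filter (fun g => g ≠ 1 ∧ orderOf g ∣ 8)) := by
    rw [Finset.disjoint_filter]
    intro g _ ha hb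
    rw [ha] at hb
    norm_num at hb
  have hd2 : Disjoint (Finset.univ.filter (fun g : G => orderOf g = 3))
      (Finset.univ.filter (fun g => orderOf g = 7) ∪
        Finset.univ.filter (fun g => g ≠ 1 ∧ orderOf g ∣ 8)) := by
    rw [Finset.disjoint_union_right, Finset.disjoint_filter, Finset.disjoint_filter]
    refine ⟨fun g _ ha hb => ?_, fun g _ ha hb => ?_⟩
    · omega
    · rw [ha] at hb
      norm_num at hb
  have hd3 : (1 : G) ∉ (Finset.univ.filter (fun g => orderOf g = 3) ∪
      (Finset.univ.filter (fun g => orderOf g = 7) ∪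
        Finset.univ.filter (fun g => g ≠ 1 ∧ orderOf g ∣ 8))) := by simp
  have hc := congrArg Finset.card hu
  rw [Finset.card_insert_of_notMem hd3, Finset.card_union_of_disjoint hd2,
    Finset.card_union_of_disjoint hd1, Finset.card_univ, ← Nat.card_eq_fintype_card, h,
    ← Fintype.card_subtype, ← Fintype.card_subtype, ← Fintype.card_subtype,
    ← Nat.card_eq_fintype_card, ← Nat.card_eq_fintype_card, ← Nat.card_eq_fintype_card,
    card_order3 h, card_order7 h] at hc
  omega

theorem card_sylow2 (h : Nat.card G = 168) : Nat.card (Sylow 2 G) = 21 := by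
  classical
  have : Fact (Nat.Prime 2) := ⟨by norm_num⟩
  have hG := not_comm h
  have hne := card_sylow_ne_one (G := G) (p := 2) (a := 3) (m := 21)
    (by rw [h]; norm_num) (by norm_num) (by norm_num) (by norm_num)
  have hmem := card_sylow_mem (G := G) (p := 2) (a := 3) (m := 21)
    (by rw [h]; norm_num) (by norm_num)
  have hfac := two_mul_card_dvd_sylow_factorial hG hne
  rw [show (21 : ℕ).divisors.filter (fun d => d % 2 = 1) = {1, 3, 7, 21} by decide] at hmem
  simp only [Finset.mem_insert, Finset.mem_singleton] at hmem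
  rcases hmem with h1 | h1 | h1 | h1
  · exact absurd h1 hne
  · rw [h1, h] at hfac; norm_num [Nat.factorial] at hfac
  · exfalso
    -- seven Sylow 2-subgroups hold at most 49 non-trivial elements
    have h63 := card_two_elements h
    have hsur : Function.Surjective (fun s : (Σ T : Sylow 2 G, {x : ↥(T : Subgroup G) // x ≠ 1}) =>
        (⟨s.2.1.1, fun e => s.2.2 (Subtype.ext e), by
          have := Subgroup.orderOf_coe s.2.1
          rw [this, ← card_of_sylow2 h s.1]
          exact orderOf_dvd_natCard _⟩ : {g : G // g ≠ 1 ∧ orderOf g ∣ 8})) := by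
      rintro ⟨g, hg1, hg8⟩
      have hp : IsPGroup 2 ↥(zpowers g) := by
        obtain ⟨k, -, hk⟩ := (Nat.dvd_prime_pow Nat.prime_two).mp (show orderOf g ∣ 2 ^ 3 from hg8)
        exact IsPGroup.of_card (n := k) (by rw [Nat.card_zpowers, hk])
      obtain ⟨T, hT⟩ := hp.exists_le_sylow
      exact ⟨⟨T, ⟨g, hT (mem_zpowers g)⟩, fun e => hg1 (congrArg Subtype.val e)⟩, rfl⟩
    have hle := Nat.card_le_card_of_surjective _ hsur
    have : Fintype (Sylow 2 G) := Fintype.ofFinite _
    have hT : ∀ T : Sylow 2 G, Nat.card {x : ↥(T : Subgroup G) // x ≠ 1} = 7 := by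
      intro T
      have := Fintype.ofFinite ↥(T : Subgroup G)
      rw [Nat.card_eq_fintype_card, Fintype.card_subtype_compl, Fintype.card_subtype_eq,
        ← Nat.card_eq_fintype_card, card_of_sylow2 h T]
    rw [h63, Nat.card_sigma, Finset.sum_congr rfl (fun T _ => hT T), Finset.sum_const,
      Finset.card_univ, ← Nat.card_eq_fintype_card, h1] at hle
    norm_num at hle
  · exact h1

theorem normalizer2_eq (h : Nat.card G = 168) (T : Sylow 2 G) :
    normalizer ((T : Subgroup G) : Set G) = (T : Subgroup G) := by
  have : Fact (Nat.Prime 2) := ⟨by norm_num⟩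
  refine (eq_of_le_of_card_ge le_normalizer ?_).symm
  have := card_normalizer_mul T
  rw [card_sylow2 h, h] at this
  rw [card_of_sylow2 h]
  omega

/-- A Sylow 2-subgroup is not abelian. -/
theorem sylow2_not_comm (h : Nat.card G = 168) (T : Sylow 2 G) :
    ¬ ∀ a ∈ (T : Subgroup G), ∀ b ∈ (T : Subgroup G), a * b = b * a := by
  intro hc
  have : Fact (Nat.Prime 2) := ⟨by norm_num⟩
  refine not_normalizer_le_centralizer (not_comm h) T ?_ ?_
  · intro hb
    have := card_of_sylow2 h T
    rw [hb, Subgroup.card_bot] at this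
    norm_num at this
  · rw [normalizer2_eq h]
    intro a ha b hb
    exact (hc a ha b hb).symm

/-- No element has order 8. -/
theorem orderOf_ne_eight (h : Nat.card G = 168) (g : G) : orderOf g ≠ 8 := by
  intro hg
  have : Fact (Nat.Prime 2) := ⟨by norm_num⟩
  obtain ⟨T, hT⟩ := (IsPGroup.of_card (n := 3)
    (by rw [Nat.card_zpowers, hg]; norm_num) : IsPGroup 2 ↥(zpowers g)).exists_le_sylow
  have heq : zpowers g = (T : Subgroup G) :=
    eq_of_le_of_card_ge hT (by rw [card_of_sylow2 h, Nat.card_zpowers, hg])
  refine sylow2_not_comm h T fun a ha b hb => ?_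
  rw [← heq] at ha hb
  obtain ⟨i, rfl⟩ := mem_zpowers_iff.mp ha
  obtain ⟨j, rfl⟩ := mem_zpowers_iff.mp hb
  exact zpow_mul_comm g i j

/-- Possible element orders. -/
theorem orderOf_mem (h : Nat.card G = 168) (g : G) :
    orderOf g = 1 ∨ orderOf g = 2 ∨ orderOf g = 3 ∨ orderOf g = 4 ∨ orderOf g = 7 := by
  rcases order_cases h g with h1 | h1 | h1
  · exact Or.inr (Or.inr (Or.inl h1.1))
  · exact Or.inr (Or.inr (Or.inr (Or.inr h1.1)))
  · obtain ⟨k, hk, hk'⟩ := (Nat.dvd_prime_pow Nat.prime_two).mp (show orderOf g ∣ 2 ^ 3 from h1)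
    have h8 := orderOf_ne_eight h g
    interval_cases k <;> simp_all

/-- The centralizer of a non-trivial 2-element is a 2-group of order dividing 8. -/
theorem card_centralizer_dvd (h : Nat.card G = 168) {x : G} (hx1 : x ≠ 1)
    (hx : orderOf x ∣ 8) : Nat.card ↥(centralizer ({x} : Set G)) ∣ 8 := by
  have hd : Nat.card ↥(centralizer ({x} : Set G)) ∣ 8 * 21 := by
    have h1 := Subgroup.card_subgroup_dvd_card (centralizer ({x} : Set G))
    rwa [h] at h1
  refine Nat.Coprime.dvd_of_dvd_mul_right ?_ hd
  have key : ∀ p : ℕ, p.Prime → (p = 3 ∨ p = 7) →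
      ¬ p ∣ Nat.card ↥(centralizer ({x} : Set G)) := by
    intro p hp hp37 hdvd
    have : Fact p.Prime := ⟨hp⟩
    obtain ⟨⟨c, hc⟩, hco⟩ := exists_prime_orderOf_dvd_card' p hdvd
    rw [Subgroup.orderOf_mk] at hco
    rw [mem_centralizer_singleton_iff] at hc
    have hcop : Nat.Coprime (orderOf c) (orderOf x) := by
      rw [hco]
      refine Nat.Coprime.coprime_dvd_right hx ?_
      rcases hp37 with rfl | rfl <;> norm_num
    have hmul := (show Commute c x from hc).orderOf_mul_eq_mul_orderOf_of_coprime hcop
    have hxo : orderOf x ≠ 1 := fun e => hx1 (orderOf_eq_one_iff.mp e)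
    rw [hco] at hmul
    have hle := Nat.le_of_dvd (by norm_num) hx
    have h0 := orderOf_pos x
    rcases hp37 with rfl | rfl <;> rcases orderOf_mem h (c * x) with e | e | e | e | e <;> omega
  rw [show (21 : ℕ) = 3 * 7 by norm_num, Nat.coprime_mul_iff_right]
  exact ⟨((Nat.Prime.coprime_iff_not_dvd (by norm_num)).mpr
      (key 3 (by norm_num) (Or.inl rfl))).symm,
    ((Nat.Prime.coprime_iff_not_dvd (by norm_num)).mpr (key 7 (by norm_num) (Or.inr rfl))).symm⟩

omit [Finite G] [IsSimpleGroup G] in
/-- If `T` is generated, up to a subgroup of index 2, by a central element it is abelian. -/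
theorem comm_of_index_two {T : Subgroup G} {y : G} (hy : y ∈ T)
    (hcen : ∀ t ∈ T, t * y = y * t) (hidx : (zpowers y).relIndex T = 2) :
    ∀ a ∈ T, ∀ b ∈ T, a * b = b * a := by
  intro a ha b hb
  have hz : ∀ t ∈ T, ∀ v ∈ zpowers y, Commute t v := by
    intro t ht v hv
    obtain ⟨k, rfl⟩ := mem_zpowers_iff.mp hv
    exact Commute.zpow_right (hcen t ht) k
  by_cases ha' : a ∈ zpowers y
  · exact ((hz b hb a ha').eq).symm
  by_cases hb' : b ∈ zpowers y
  · exact (hz a ha b hb').eq
  have : a⁻¹ * b ∈ zpowers y := by
    have h2 := mul_mem_iff_of_index_two (H := (zpowers y).subgroupOf T) hidx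
      (a := (⟨a, ha⟩ : ↥T)⁻¹) (b := ⟨b, hb⟩)
    simp only [mem_subgroupOf, Subgroup.coe_mul, InvMemClass.coe_inv, inv_mem_iff] at h2
    exact h2.mpr (iff_of_false ha' hb')
  obtain ⟨v, hv, rfl⟩ : ∃ v ∈ zpowers y, a * v = b := ⟨a⁻¹ * b, this, mul_inv_cancel_left a b⟩
  have := (hz a ha v hv).eq
  rw [mul_assoc a v a, ← this]

/-- The centralizer of an element of order 4 is cyclic of order 4. -/
theorem card_centralizer4 (h : Nat.card G = 168) {y : G} (hy : orderOf y = 4) :
    Nat.card ↥(centralizer ({y} : Set G)) = 4 := by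
  have : Fact (Nat.Prime 2) := ⟨by norm_num⟩
  have hy1 : y ≠ 1 := fun e => by rw [e, orderOf_one] at hy; norm_num at hy
  have hd := card_centralizer_dvd h hy1 (by rw [hy]; norm_num)
  have h4 : 4 ∣ Nat.card ↥(centralizer ({y} : Set G)) := by
    rw [← hy, ← Nat.card_zpowers]
    exact Subgroup.card_dvd_of_le (zpowers_le.mpr (mem_centralizer_singleton_iff.mpr rfl))
  have hle := Nat.le_of_dvd (by norm_num) hd
  obtain ⟨c, hc⟩ := h4
  rw [hc] at hd hle ⊢
  have hc0 : c ≠ 0 := by rintro rfl; simp at hd
  obtain rfl | rfl : c = 1 ∨ c = 2 := by omega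
  · norm_num
  · exfalso
    let T : Sylow 2 G := Sylow.ofCard (centralizer ({y} : Set G)) (by
      rw [hc]
      exact (card_of_sylow2 h (default : Sylow 2 G)).symm.trans
        (default : Sylow 2 G).card_eq_multiplicity)
    have hyT : y ∈ (T : Subgroup G) := mem_centralizer_singleton_iff.mpr rfl
    refine sylow2_not_comm h T (comm_of_index_two hyT
      (fun t ht => mem_centralizer_singleton_iff.mp ht) ?_)
    have h1 := Subgroup.card_mul_index ((zpowers y).subgroupOf (T : Subgroup G))
    rw [Nat.card_congr (subgroupOfEquivOfLe (zpowers_le.mpr hyT)).toEquiv, Nat.card_zpowers, hy,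
      card_of_sylow2 h T] at h1
    show ((zpowers y).subgroupOf (T : Subgroup G)).index = 2
    omega

theorem exists_order4 (h : Nat.card G = 168) (T : Sylow 2 G) :
    ∃ y ∈ (T : Subgroup G), orderOf y = 4 := by
  by_contra hc
  push Not at hc
  refine sylow2_not_comm h T fun a ha b hb => ?_
  have hsq : ∀ t ∈ (T : Subgroup G), t * t = 1 := by
    intro t ht
    have h8 : orderOf t ∣ 8 := by
      rw [← Subgroup.orderOf_mk t ht, ← card_of_sylow2 h T]
      exact orderOf_dvd_natCard _
    have hne := hc t ht
    rcases orderOf_mem h t with e | e | e | e | e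
    · rw [orderOf_eq_one_iff.mp e, one_mul]
    · rw [← pow_two, ← e, pow_orderOf_eq_one]
    · rw [e] at h8; norm_num at h8
    · exact absurd e hne
    · rw [e] at h8; norm_num at h8
  have h1 := hsq _ ha
  have h2 := hsq _ hb
  have h3 := hsq _ (mul_mem ha hb)
  calc a * b = a * (a * b * (a * b)) * b := by rw [h3, mul_one]
    _ = (a * a) * (b * a) * (b * b) := by group
    _ = b * a := by rw [h1, h2, one_mul, mul_one]

theorem exists_central_involution (h : Nat.card G = 168) (T : Sylow 2 G) :
    ∃ z ∈ (T : Subgroup G), orderOf z = 2 ∧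
      centralizer ({z} : Set G) = (T : Subgroup G) := by
  have : Fact (Nat.Prime 2) := ⟨by norm_num⟩
  have hnt : Nontrivial ↥(T : Subgroup G) :=
    Finite.one_lt_card_iff_nontrivial.mp (by rw [card_of_sylow2 h]; norm_num)
  have := T.2.center_nontrivial
  obtain ⟨⟨⟨c, hcT⟩, hc⟩, hc1⟩ := exists_ne (1 : center ↥(T : Subgroup G))
  have hcomm : ∀ x ∈ (T : Subgroup G), x * c = c * x := fun x hx =>
    congrArg Subtype.val (mem_center_iff.mp hc ⟨x, hx⟩)
  have hne : c ≠ 1 := fun e => hc1 (Subtype.ext (Subtype.ext e))
  have h8 : orderOf c ∣ 8 := by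
    rw [← Subgroup.orderOf_mk c hcT, ← card_of_sylow2 h T]
    exact orderOf_dvd_natCard _
  have hTC : (T : Subgroup G) ≤ centralizer ({c} : Set G) := fun x hx =>
    mem_centralizer_singleton_iff.mpr (hcomm x hx)
  have heq : centralizer ({c} : Set G) = (T : Subgroup G) :=
    (eq_of_le_of_card_ge hTC
      ((Nat.le_of_dvd (by norm_num) (card_centralizer_dvd h hne h8)).trans
        (card_of_sylow2 h T).ge)).symm
  refine ⟨c, hcT, ?_, heq⟩
  rcases orderOf_mem h c with e | e | e | e | e
  · exact absurd (orderOf_eq_one_iff.mp e) hne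
  · exact e
  · rw [e] at h8; norm_num at h8
  · have := card_centralizer4 h e
    rw [heq, card_of_sylow2 h] at this
    norm_num at this
  · rw [e] at h8; norm_num at h8

/-- Classes and counts of involutions and of elements of order 4. -/
theorem two_classes (h : Nat.card G = 168) :
    Nat.card {g : G // orderOf g = 2} = 21 ∧ Nat.card {g : G // orderOf g = 4} = 42 ∧
      (∀ s t : G, orderOf s = 2 → orderOf t = 2 → IsConj s t) ∧
      (∀ s t : G, orderOf s = 4 → orderOf t = 4 → IsConj s t) := by
  classical
  have := Fintype.ofFinite G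
  let T : Sylow 2 G := default
  obtain ⟨z, -, hz, hzT⟩ := exists_central_involution h T
  obtain ⟨y, -, hy⟩ := exists_order4 h T
  have hclz : Nat.card {g : G // IsConj z g} = 21 := by
    have := card_isConj_mul z
    rw [hzT, card_of_sylow2 h, h] at this
    omega
  have hcly : Nat.card {g : G // IsConj y g} = 42 := by
    have := card_isConj_mul y
    rw [card_centralizer4 h hy, h] at this
    omega
  have h63 := card_two_elements h
  have hdis : Disjoint (Finset.univ.filter (fun g : G => orderOf g = 2))
      (Finset.univ.filter (fun g => orderOf g = 4)) := by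
    rw [Finset.disjoint_filter]; intros; omega
  have hsub : Finset.univ.filter (fun g : G => g ≠ 1 ∧ orderOf g ∣ 8) =
      Finset.univ.filter (fun g : G => orderOf g = 2) ∪
        Finset.univ.filter (fun g => orderOf g = 4) := by
    ext g
    simp only [Finset.mem_filter, Finset.mem_univ, true_and, Finset.mem_union]
    constructor
    · rintro ⟨hg1, hg8⟩
      rcases orderOf_mem h g with e | e | e | e | e
      · exact absurd (orderOf_eq_one_iff.mp e) hg1
      · exact Or.inl e
      · rw [e] at hg8; norm_num at hg8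
      · exact Or.inr e
      · rw [e] at hg8; norm_num at hg8
    · rintro (e | e) <;>
        exact ⟨fun e1 => by rw [e1, orderOf_one] at e; norm_num at e, by rw [e]; norm_num⟩
  have hconj : ∀ {a b : G}, IsConj a b → orderOf b = orderOf a := by
    intro a b hab
    obtain ⟨c, hc⟩ := isConj_iff.mp hab
    rw [← hc]
    exact (MulAut.conj c).orderOf_eq a
  have hz' : Finset.univ.filter (fun g => IsConj z g) ⊆
      Finset.univ.filter (fun g : G => orderOf g = 2) := by
    intro g hg
    simp only [Finset.mem_filter, Finset.mem_univ, true_and] at hg ⊢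
    rw [hconj hg, hz]
  have hy' : Finset.univ.filter (fun g => IsConj y g) ⊆
      Finset.univ.filter (fun g : G => orderOf g = 4) := by
    intro g hg
    simp only [Finset.mem_filter, Finset.mem_univ, true_and] at hg ⊢
    rw [hconj hg, hy]
  simp only [Nat.card_eq_fintype_card, Fintype.card_subtype] at hclz hcly h63 ⊢
  rw [hsub, Finset.card_union_of_disjoint hdis] at h63
  have l1 := Finset.card_le_card hz'
  have l2 := Finset.card_le_card hy'
  have e1 := Finset.eq_of_subset_of_card_le hz' (by omega)
  have e2 := Finset.eq_of_subset_of_card_le hy' (by omega)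
  refine ⟨by omega, by omega, fun s t hs ht => ?_, fun s t hs ht => ?_⟩
  · have hs' : IsConj z s := by
      have : s ∈ Finset.univ.filter (fun g => IsConj z g) := by rw [e1]; simpa using hs
      simpa using this
    have ht' : IsConj z t := by
      have : t ∈ Finset.univ.filter (fun g => IsConj z g) := by rw [e1]; simpa using ht
      simpa using this
    exact hs'.symm.trans ht'
  · have hs' : IsConj y s := by
      have : s ∈ Finset.univ.filter (fun g => IsConj y g) := by rw [e2]; simpa using hs
      simpa using this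
    have ht' : IsConj y t := by
      have : t ∈ Finset.univ.filter (fun g => IsConj y g) := by rw [e2]; simpa using ht
      simpa using this
    exact hs'.symm.trans ht'

/-- Every involution centralizer has order 8. -/
theorem card_centralizer2 (h : Nat.card G = 168) {u : G} (hu : orderOf u = 2) :
    Nat.card ↥(centralizer ({u} : Set G)) = 8 := by
  obtain ⟨z, -, hz, hzT⟩ := exists_central_involution h (default : Sylow 2 G)
  have hc := (two_classes h).2.2.1 z u hz hu
  have h1 := card_isConj_mul z
  have h2 := card_isConj_mul u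
  have he : Nat.card {g : G // IsConj z g} = Nat.card {g : G // IsConj u g} :=
    Nat.card_congr (Equiv.subtypeEquivRight fun g => ⟨hc.symm.trans, hc.trans⟩)
  rw [← he, ← h1, hzT, card_of_sylow2 h] at h2
  exact Nat.eq_of_mul_eq_mul_left (Nat.pos_of_ne_zero (fun e => by rw [e, h] at h1; simp at h1)) h2

/-- A Sylow 2-subgroup has an involution outside a given cyclic subgroup of order 4. -/
theorem exists_noncentral_involution (h : Nat.card G = 168) (T : Sylow 2 G) {y : G}
    (hy : y ∈ (T : Subgroup G)) (hyo : orderOf y = 4) :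
    ∃ a ∈ (T : Subgroup G), orderOf a = 2 ∧ a ∉ zpowers y := by
  classical
  by_contra hc
  push Not at hc
  have := Fintype.ofFinite G
  -- the only involution of `T` is then its central involution `z`
  obtain ⟨z, hzT, hz, hzC⟩ := exists_central_involution h T
  have honly : ∀ a ∈ (T : Subgroup G), orderOf a = 2 → a = z := by
    have key : ∀ a ∈ zpowers y, orderOf a = 2 → a = y ^ 2 := by
      intro a ha hao
      rw [mem_zpowers_iff_mem_range_orderOf, hyo] at ha
      simp only [Finset.mem_image, Finset.mem_range] at ha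
      obtain ⟨i, hi, rfl⟩ := ha
      interval_cases i
      · simp at hao
      · rw [pow_one, hyo] at hao; norm_num at hao
      · rfl
      · rw [Nat.Coprime.orderOf_pow (by rw [hyo]; norm_num), hyo] at hao
        norm_num at hao
    intro a ha hao
    rw [key a (hc a ha hao) hao, key z (hc z hzT hz) hz]
  have hTu : ∀ u : G, orderOf u = 2 → 6 ≤
      ((Finset.univ.filter (fun g : G => orderOf g = 4)).filter (fun g => g ^ 2 = u)).card := by
    intro u hu
    obtain ⟨k, hk⟩ := isConj_iff.mp ((two_classes h).2.2.1 z u hz hu)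
    subst hk
    have hsub : (Finset.univ.filter (fun g : G => g ∈ (T : Subgroup G) ∧ orderOf g = 4)).map
        (MulAut.conj k).toEquiv.toEmbedding ⊆
        (Finset.univ.filter (fun g : G => orderOf g = 4)).filter (fun g => g ^ 2 = k * z * k⁻¹) := by
      intro g hg
      simp only [Finset.mem_map, Finset.mem_filter, Finset.mem_univ, true_and] at hg
      obtain ⟨t, ⟨ht, hto⟩, rfl⟩ := hg
      simp only [Finset.mem_filter, Finset.mem_univ, true_and]
      refine ⟨((MulAut.conj k).orderOf_eq t).trans hto, ?_⟩
      show (MulAut.conj k t) ^ 2 = MulAut.conj k z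
      rw [← map_pow]
      congr 1
      exact honly _ (pow_mem ht 2) (by rw [orderOf_pow t, hto]; norm_num)
    refine le_trans ?_ (Finset.card_le_card hsub)
    rw [Finset.card_map]
    have hsub2 : (Finset.univ.filter (fun g : G => g ∈ (T : Subgroup G))) \ {1, z} ⊆
        Finset.univ.filter (fun g : G => g ∈ (T : Subgroup G) ∧ orderOf g = 4) := by
      intro g hg
      simp only [Finset.mem_sdiff, Finset.mem_filter, Finset.mem_univ, true_and,
        Finset.mem_insert, Finset.mem_singleton, not_or] at hg ⊢
      obtain ⟨hgT, hg1, hgz⟩ := hg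
      refine ⟨hgT, ?_⟩
      have h8 : orderOf g ∣ 8 := by
        rw [← Subgroup.orderOf_mk g hgT, ← card_of_sylow2 h T]
        exact orderOf_dvd_natCard _
      rcases orderOf_mem h g with e | e | e | e | e
      · exact absurd (orderOf_eq_one_iff.mp e) hg1
      · exact absurd (honly g hgT e) hgz
      · rw [e] at h8; norm_num at h8
      · exact e
      · rw [e] at h8; norm_num at h8
    refine le_trans ?_ (Finset.card_le_card hsub2)
    have h8 : (Finset.univ.filter (fun g : G => g ∈ (T : Subgroup G))).card = 8 := by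
      rw [← Fintype.card_subtype, ← Nat.card_eq_fintype_card]
      exact card_of_sylow2 h T
    have h2 : ({1, z} : Finset G).card ≤ 2 := Finset.card_le_two
    have := Finset.le_card_sdiff ({1, z} : Finset G)
      (Finset.univ.filter (fun g : G => g ∈ (T : Subgroup G)))
    omega
  obtain ⟨h21, h42, -, -⟩ := two_classes h
  simp only [Nat.card_eq_fintype_card, Fintype.card_subtype] at h21 h42
  have hmaps : ∀ g ∈ Finset.univ.filter (fun g : G => orderOf g = 4),
      g ^ 2 ∈ Finset.univ.filter (fun g : G => orderOf g = 2) := by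
    intro g hg
    simp only [Finset.mem_filter, Finset.mem_univ, true_and] at hg ⊢
    rw [orderOf_pow g, hg]; norm_num
  have hfib := Finset.card_eq_sum_card_fiberwise hmaps
  have hge := Finset.card_nsmul_le_sum (Finset.univ.filter (fun g : G => orderOf g = 2))
    (fun u => ((Finset.univ.filter (fun g : G => orderOf g = 4)).filter (fun g => g ^ 2 = u)).card) 6
    (fun u hu => hTu u (by simpa using hu))
  rw [smul_eq_mul, ← hfib, h21, h42] at hge
  norm_num at hge

/-- A Sylow 2-subgroup is generated by two involutions with product of order 4. -/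
theorem exists_dihedral_gens (h : Nat.card G = 168) (T : Sylow 2 G) :
    ∃ a b : G, orderOf a = 2 ∧ orderOf b = 2 ∧ orderOf (a * b) = 4 ∧
      closure ({a, b} : Set G) = (T : Subgroup G) := by
  classical
  obtain ⟨y, hyT, hy⟩ := exists_order4 h T
  obtain ⟨a, haT, ha, hay⟩ := exists_noncentral_involution h T hyT hy
  have hbT : a * y ∈ (T : Subgroup G) := mul_mem haT hyT
  have ha2 := Involutions.Basic.invol_mul_self ha
  have ha1 := Involutions.Basic.invol_ne_one ha
  have hne1 : a * y ≠ 1 := fun e => hay (by
    rw [mul_eq_one_iff_eq_inv] at e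
    exact e ▸ inv_mem (mem_zpowers y))
  have h8 : orderOf (a * y) ∣ 8 := by
    rw [← Subgroup.orderOf_mk _ hbT, ← card_of_sylow2 h T]
    exact orderOf_dvd_natCard _
  have hrel : (zpowers y).relIndex (T : Subgroup G) = 2 := by
    have h1 := Subgroup.card_mul_index ((zpowers y).subgroupOf (T : Subgroup G))
    rw [Nat.card_congr (subgroupOfEquivOfLe (zpowers_le.mpr hyT)).toEquiv, Nat.card_zpowers, hy,
      card_of_sylow2 h T] at h1
    show ((zpowers y).subgroupOf (T : Subgroup G)).index = 2
    omega
  have hay' : a * y ∉ zpowers y := fun e => hay ((mul_mem_cancel_right (mem_zpowers y)).mp e)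
  have hb : orderOf (a * y) = 2 := by
    rcases orderOf_mem h (a * y) with e | e | e | e | e
    · exact absurd (orderOf_eq_one_iff.mp e) hne1
    · exact e
    · rw [e] at h8; norm_num at h8
    · -- then `T` would be abelian or have a second cyclic subgroup of order 4 containing `a`
      exfalso
      have hsq : ∀ g ∈ (T : Subgroup G), g ^ 2 ∈ zpowers y := by
        intro g hg
        exact sq_mem_of_index_two (H := (zpowers y).subgroupOf (T : Subgroup G)) hrel ⟨g, hg⟩
      -- `y` is conjugated by `a` into a power of `y` of order 4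
      have hconj : a * y * a ∈ zpowers y := by
        have h1 := hsq _ hbT
        have h2 : a * y * a = (a * y) ^ 2 * y⁻¹ := by
          rw [pow_two]; group
        rw [h2]
        exact mul_mem h1 (inv_mem (mem_zpowers y))
      have ho : orderOf (a * y * a) = 4 := by
        have h3 : a * y * a = MulAut.conj a y := by
          rw [MulAut.conj_apply, Involutions.Basic.invol_inv ha]
        rw [h3, MulEquiv.orderOf_eq, hy]
      rw [mem_zpowers_iff_mem_range_orderOf, hy] at hconj
      simp only [Finset.mem_image, Finset.mem_range] at hconj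
      obtain ⟨i, hi, hi'⟩ := hconj
      rw [← hi', orderOf_pow, hy] at ho
      interval_cases i
      · norm_num at ho
      · -- `a` and `y` commute
        apply sylow2_not_comm h T
        refine comm_of_index_two hyT (fun t ht => ?_) hrel
        by_cases htz : t ∈ zpowers y
        · obtain ⟨k, rfl⟩ := mem_zpowers_iff.mp htz
          exact ((Commute.refl y).zpow_left k).eq
        · have h4 : a * t ∈ zpowers y := by
            have h2 := mul_mem_iff_of_index_two (H := (zpowers y).subgroupOf (T : Subgroup G)) hrel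
              (a := ⟨a, haT⟩) (b := ⟨t, ht⟩)
            simp only [mem_subgroupOf, Subgroup.coe_mul] at h2
            exact h2.mpr (iff_of_false hay htz)
          have hay2 : Commute a y := by
            rw [pow_one] at hi'
            show a * y = y * a
            calc a * y = a * y * (a * a) := by rw [ha2, mul_one]
              _ = a * y * a * a := by group
              _ = y * a := by rw [← hi']
          obtain ⟨k, hk⟩ := mem_zpowers_iff.mp h4
          have ht' : t = a * y ^ k := by rw [hk, ← mul_assoc, ha2, one_mul]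
          rw [ht']
          exact (hay2.mul_left ((Commute.refl y).zpow_left k)).eq
      · norm_num at ho
      · -- inversion: then `(a y)^2 = 1`
        have h5 : (a * y) ^ 2 = 1 := by
          calc (a * y) ^ 2 = a * y * a * y := by rw [pow_two]; group
            _ = y ^ 3 * y := by rw [← hi']
            _ = y ^ 4 := by group
            _ = 1 := by rw [← hy, pow_orderOf_eq_one]
        have := orderOf_dvd_of_pow_eq_one h5
        rw [e] at this
        norm_num at this
    · rw [e] at h8; norm_num at h8
  refine ⟨a, a * y, ha, hb, by rw [← mul_assoc, ha2, one_mul]; exact hy, ?_⟩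
  refine eq_of_le_of_card_ge ((closure_le _).mpr (by
    intro x hx
    simp only [Set.mem_insert_iff, Set.mem_singleton_iff] at hx
    rcases hx with rfl | rfl <;> assumption)) ?_
  rw [Involutions.Basic.card_closure_pair ha hb, card_of_sylow2 h T, ← mul_assoc, ha2, one_mul, hy]

/-- A Sylow 2-subgroup is dihedral of order 8. -/
theorem sylow2_dihedral (h : Nat.card G = 168) (T : Sylow 2 G) :
    Nonempty (↥(T : Subgroup G) ≃* DihedralGroup 4) := by
  obtain ⟨a, b, ha, hb, hab, heq⟩ := exists_dihedral_gens h T
  have e := Involutions.Basic.closurePairEquiv ha hb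
  rw [hab] at e
  exact ⟨(MulEquiv.subgroupCongr heq.symm).trans e⟩

end Cfsg.Agent.Lib.SmallGroups.Order168
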