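import Mathlib
import Cfsg.Agent.Lib.SmallGroups.ProjLine
import Cfsg.Agent.Lib.SmallGroups.Counting

/-!
# Recognition of `PSL(2,q)` for small primes `q`

`mulEquiv_psl_of_sylow`: a simple group of order `q(q-1)(q+1)/2` with exactly `q+1` Sylow
`q`-subgroups is `PSL(2,q)`, given the finite check `PrimeCheck q g nc` (decidable per `q`).
-/

set_option autoImplicit false

namespace Cfsg.Agent.Lib.SmallGroups.PSLPrime

open OnePoint (infty)
open scoped OnePoint

variable {q : ℕ}

/-- Tabulated candidate for the involution swapping `0` and `∞`. -/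
def tbl (g : ZMod q) (m j : ℕ) (a b x : ZMod q) : ZMod q :=
  match (List.range m).find? (fun i => decide (g ^ (2 * i) = x)) with
  | some i => g ^ (2 * i * j) * a
  | none =>
    match (List.range m).find? (fun i => decide (g * g ^ (2 * i) = x)) with
    | some i => g ^ (2 * i * j) * b
    | none => 0

/-- The candidate on the projective line. -/
def tblW (g : ZMod q) (m j : ℕ) (a b : ZMod q) : Option (ZMod q) → Option (ZMod q)
  | none => some 0
  | some x => if x = 0 then none else some (tbl g m j a b x)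

/-- Translation on the projective line. -/
def shift (t : ZMod q) : Option (ZMod q) → Option (ZMod q)
  | none => none
  | some x => some (x + t)

/-- The product `w u(-a) w u(1) w`. -/
def relMap (g : ZMod q) (m j : ℕ) (a b : ZMod q) (x : Option (ZMod q)) : Option (ZMod q) :=
  tblW g m j a b (shift (-a) (tblW g m j a b (shift 1 (tblW g m j a b x))))

/-- The product `relMap` is an affine map with square multiplier. -/
def Valid [NeZero q] (g : ZMod q) (m j : ℕ) (a b : ZMod q) : Prop :=
  ((relMap g m j a b (some 1)).getD 0 - (relMap g m j a b (some 0)).getD 0) ^ m = 1 ∧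
  ∀ x : ZMod q, relMap g m j a b (some x) =
    some (((relMap g m j a b (some 1)).getD 0 - (relMap g m j a b (some 0)).getD 0) * x +
      (relMap g m j a b (some 0)).getD 0)

instance validDecidable [NeZero q] (g : ZMod q) (m j : ℕ) (a b : ZMod q) :
    Decidable (Valid g m j a b) := by
  unfold Valid
  exact inferInstance

/-- The finite facts about `ℤ/q` needed; `nc` requests that non-trivial dilations do not commute
with the swapping elements. -/
def PrimeCheck (q : ℕ) [NeZero q] (g : ZMod q) (nc : Bool) : Prop :=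
  (∀ x : ZMod q, x = 0 ∨ ∃ i < (q - 1) / 2, x = g ^ (2 * i) ∨ x = g * g ^ (2 * i)) ∧
  (g ^ 2) ^ ((q - 1) / 2) = 1 ∧
  (∀ s : ZMod q, s ^ ((q - 1) / 2) = 1 → ∃ i < (q - 1) / 2, s = g ^ (2 * i)) ∧
  (∀ a : ZMod q, a ≠ 0 → (a * a) ^ ((q - 1) / 2) = 1) ∧
  ∀ j < (q - 1) / 2, (g ^ 2) ^ (j * j) = g ^ 2 → (nc = true → g ^ 2 ≠ 1 → g ^ (2 * j) ≠ g ^ 2) →
    ∀ a : ZMod q, (a = 1 ∨ a = g) → ∀ b : ZMod q, Valid g ((q - 1) / 2) j a b →
      ∃ r : ZMod q, r ≠ 0 ∧ ∀ x : ZMod q, x ≠ 0 →
        tbl g ((q - 1) / 2) j a b x * x = -(r * r)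

/-- Recognition among subgroups of `Perm (OnePoint (ZMod q))`. -/
theorem mulEquiv_of_coords [Fact q.Prime] (g : ZMod q) (nc : Bool) (hq : 2 < q)
    (hck : PrimeCheck q g nc) (H : Subgroup (Equiv.Perm (OnePoint (ZMod q))))
    (hcard : 2 * Nat.card ↥H = q * (q - 1) * (q + 1))
    (hT : ∀ b : ZMod q, ∃ h ∈ H, h ∞ = ∞ ∧
      ∀ x : ZMod q, h (x : OnePoint (ZMod q)) = ((x + b : ZMod q) : OnePoint (ZMod q)))
    (hN : ∀ h ∈ H, h ∞ = ∞ → ∃ s b : ZMod q,
      ∀ x : ZMod q, h (x : OnePoint (ZMod q)) = ((s * x + b : ZMod q) : OnePoint (ZMod q)))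
    (hS : ∃ w ∈ H, w ∞ = ((0 : ZMod q) : OnePoint (ZMod q)) ∧
      w ((0 : ZMod q) : OnePoint (ZMod q)) = ∞)
    (hnc : nc = true → ∀ w ∈ H, w ∞ = ((0 : ZMod q) : OnePoint (ZMod q)) →
      w ((0 : ZMod q) : OnePoint (ZMod q)) = ∞ → ∀ d ∈ H, d ∞ = ∞ →
        d ((0 : ZMod q) : OnePoint (ZMod q)) = ((0 : ZMod q) : OnePoint (ZMod q)) → d ≠ 1 →
          w * d ≠ d * w) :
    Nonempty (↥H ≃* Matrix.ProjectiveSpecialLinearGroup (Fin 2) (ZMod q)) := by
  classical
  obtain ⟨hcov, hg2, hsq, hfer, hmain⟩ := hck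
  have hqp : q.Prime := Fact.out
  set m := (q - 1) / 2 with hm
  have h2m : 2 * m = q - 1 := by
    rcases hqp.eq_two_or_odd' with h | ⟨k, hk⟩
    · omega
    · omega
  have hm0 : 0 < m := by omega
  have hg0 : g ≠ 0 := fun h => by
    rw [h] at hg2
    simp [zero_pow hm0.ne'] at hg2
  -- transitivity
  obtain ⟨w₀, hw₀, hw₀i, hw₀0⟩ := hS
  let zp : OnePoint (ZMod q) := ((0 : ZMod q) : OnePoint (ZMod q))
  have htr : ∀ x : OnePoint (ZMod q), ∃ h : ↥H, h.1 ∞ = x := by
    intro x
    induction x using OnePoint.rec with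
    | infty => exact ⟨1, rfl⟩
    | coe x =>
      obtain ⟨t, ht, hti, htx⟩ := hT x
      refine ⟨⟨t * w₀, mul_mem ht hw₀⟩, ?_⟩
      show t (w₀ ∞) = _
      rw [hw₀i, htx, zero_add]
  -- the stabilisers
  have hpre : MulAction.IsPretransitive ↥H (OnePoint (ZMod q)) := by
    refine ⟨fun x y => ?_⟩
    obtain ⟨a, ha⟩ := htr x
    obtain ⟨b, hb⟩ := htr y
    refine ⟨b * a⁻¹, ?_⟩
    show b.1 (a.1⁻¹ x) = y
    rw [← ha, Equiv.Perm.inv_def, Equiv.symm_apply_apply, hb]
  have hcardP : Nat.card (OnePoint (ZMod q)) = q + 1 := by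
    rw [Nat.card_eq_fintype_card]
    show Fintype.card (Option (ZMod q)) = q + 1
    rw [Fintype.card_option, ZMod.card]
  set Hi := MulAction.stabilizer ↥H (∞ : OnePoint (ZMod q)) with hHi
  have hHicard : Nat.card ↥Hi = q * m := by
    have h1 := Hi.card_mul_index
    rw [hHi, MulAction.index_stabilizer_of_transitive, hcardP, ← hHi] at h1
    refine Nat.eq_of_mul_eq_mul_right (show 0 < 2 * (q + 1) by omega) ?_
    calc Nat.card ↥Hi * (2 * (q + 1)) = 2 * (Nat.card ↥Hi * (q + 1)) := by ring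
      _ = q * (q - 1) * (q + 1) := by rw [h1, hcard]
      _ = q * m * (2 * (q + 1)) := by rw [← h2m]; ring
  -- dilations
  have haff0 : ∀ d ∈ H, d ∞ = ∞ → d zp = zp → ∃ s : ZMod q,
      ∀ x : ZMod q, d (x : OnePoint (ZMod q)) = ((s * x : ZMod q) : OnePoint (ZMod q)) := by
    intro d hd hdi hd0
    obtain ⟨s, b, hsb⟩ := hN d hd hdi
    have hb : b = 0 := by
      have := (hsb 0).symm.trans hd0
      simpa using OnePoint.coe_injective this
    exact ⟨s, fun x => by rw [hsb, hb, add_zero]⟩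
  set C := MulAction.stabilizer ↥Hi zp with hC
  have hCcard : Nat.card ↥C = m := by
    have h1 := C.card_mul_index
    have horb : MulAction.orbit ↥Hi zp = Set.range (fun x : ZMod q => (x : OnePoint (ZMod q))) := by
      ext y
      constructor
      · rintro ⟨⟨⟨h, hh⟩, hhi⟩, rfl⟩
        have hi' : h ∞ = ∞ := MulAction.mem_stabilizer_iff.mp hhi
        obtain ⟨s, b, hsb⟩ := hN h hh hi'
        exact ⟨s * 0 + b, (hsb 0).symm⟩
      · rintro ⟨x, rfl⟩
        obtain ⟨t, ht, hti, htx⟩ := hT x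
        exact ⟨⟨⟨t, ht⟩, MulAction.mem_stabilizer_iff.mpr hti⟩, (htx 0).trans (by rw [zero_add])⟩
    rw [hC, MulAction.index_stabilizer, horb, Set.ncard_range_of_injective OnePoint.coe_injective,
      Nat.card_zmod, ← hC, hHicard, mul_comm] at h1
    exact Nat.eq_of_mul_eq_mul_left hqp.pos h1
  have hCmem : ∀ c : ↥C, c.1.1.1 ∈ H ∧ c.1.1.1 ∞ = ∞ ∧ c.1.1.1 zp = zp := fun c =>
    ⟨c.1.1.2, MulAction.mem_stabilizer_iff.mp c.1.2, MulAction.mem_stabilizer_iff.mp c.2⟩
  -- multipliers of dilations satisfy `s^m = 1`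
  have hpow : ∀ d ∈ H, d ∞ = ∞ → d zp = zp → ∀ s : ZMod q,
      (∀ x : ZMod q, d (x : OnePoint (ZMod q)) = ((s * x : ZMod q) : OnePoint (ZMod q))) →
      s ^ m = 1 := by
    intro d hd hdi hd0 s hs
    let c : ↥C := ⟨⟨⟨d, hd⟩, MulAction.mem_stabilizer_iff.mpr hdi⟩,
      MulAction.mem_stabilizer_iff.mpr hd0⟩
    have hcm : c ^ m = 1 := by rw [← hCcard]; exact pow_card_eq_one'
    have hdm : d ^ m = 1 := congrArg (fun e : ↥C => e.1.1.1) hcm
    have hiter : ∀ n : ℕ, ∀ x : ZMod q,
        (d ^ n) (x : OnePoint (ZMod q)) = ((s ^ n * x : ZMod q) : OnePoint (ZMod q)) := by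
      intro n
      induction n with
      | zero => intro x; simp
      | succ n ih =>
        intro x
        rw [pow_succ, Equiv.Perm.mul_apply, hs, ih, pow_succ, mul_assoc]
    have h1 := hiter m 1
    rw [hdm, mul_one] at h1
    exact (OnePoint.coe_injective h1).symm
  choose sC hsC using fun c : ↥C =>
    haff0 _ (hCmem c).1 (hCmem c).2.1 (hCmem c).2.2
  choose iC hiClt hiC using fun c : ↥C =>
    hsq _ (hpow _ (hCmem c).1 (hCmem c).2.1 (hCmem c).2.2 _ (hsC c))
  let φ : ↥C → Fin m := fun c => ⟨iC c, hiClt c⟩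
  have hφ : Function.Bijective φ := by
    refine (Nat.bijective_iff_injective_and_card φ).mpr ⟨?_, by rw [hCcard, Nat.card_fin]⟩
    intro c c' he
    have hi : iC c = iC c' := congrArg Fin.val he
    apply Subtype.ext; apply Subtype.ext; apply Subtype.ext
    ext x
    induction x using OnePoint.rec with
    | infty => rw [(hCmem c).2.1, (hCmem c').2.1]
    | coe x => rw [hsC, hsC, hiC c, hiC c', hi]
  have hdil : ∀ i < m, ∃ d ∈ H, d ∞ = ∞ ∧ ∀ x : ZMod q,
      d (x : OnePoint (ZMod q)) = ((g ^ (2 * i) * x : ZMod q) : OnePoint (ZMod q)) := by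
    intro i hi
    obtain ⟨c, hc⟩ := hφ.2 ⟨i, hi⟩
    have hi' : iC c = i := congrArg Fin.val hc
    exact ⟨_, (hCmem c).1, (hCmem c).2.1, fun x => by rw [hsC, hiC c, hi']⟩
  have hdil_s : ∀ s : ZMod q, s ^ m = 1 → ∃ d ∈ H, d ∞ = ∞ ∧ ∀ x : ZMod q,
      d (x : OnePoint (ZMod q)) = ((s * x : ZMod q) : OnePoint (ZMod q)) := by
    intro s hs
    obtain ⟨i, hi, rfl⟩ := hsq s hs
    exact hdil i hi
  have hgm : ∀ n : ℕ, (g ^ (2 * n)) ^ m = 1 := fun n => by
    rw [← pow_mul, show 2 * n * m = 2 * m * n by ring, pow_mul, pow_mul, hg2, one_pow]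
  -- a normalised swapping element
  have hw₀ne : ∀ x : ZMod q, x ≠ 0 → ∃ y : ZMod q, y ≠ 0 ∧
      w₀ (x : OnePoint (ZMod q)) = (y : OnePoint (ZMod q)) := by
    intro x hx
    rcases OnePoint.ne_infty_iff_exists.mp (show w₀ (x : OnePoint (ZMod q)) ≠ ∞ from fun e =>
      hx (OnePoint.coe_injective (w₀.injective (e.trans hw₀0.symm)))) with ⟨y, hy⟩
    refine ⟨y, fun e => ?_, hy.symm⟩
    subst e
    exact OnePoint.coe_ne_infty x (w₀.injective (hy.symm.trans hw₀i.symm))
  obtain ⟨y₁, hy₁0, hy₁⟩ := hw₀ne 1 one_ne_zero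
  obtain ⟨a, ha, t, ht, hta⟩ : ∃ a : ZMod q, (a = 1 ∨ a = g) ∧
      ∃ t : ZMod q, t ^ m = 1 ∧ t * y₁ = a := by
    rcases hcov y₁ with h | ⟨i, hi, h | h⟩
    · exact absurd h hy₁0
    · refine ⟨1, Or.inl rfl, g ^ (2 * (m - i)), hgm _, ?_⟩
      rw [h, ← pow_add, ← mul_add, Nat.sub_add_cancel hi.le, pow_mul, hg2]
    · refine ⟨g, Or.inr rfl, g ^ (2 * (m - i)), hgm _, ?_⟩
      rw [h, mul_left_comm, ← pow_add, ← mul_add, Nat.sub_add_cancel hi.le, pow_mul, hg2, mul_one]
  obtain ⟨dt, hdt, hdti, hdtx⟩ := hdil_s t ht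
  set w := dt * w₀ with hwdef
  have hwH : w ∈ H := mul_mem hdt hw₀
  have hwi : w ∞ = zp := by
    show dt (w₀ ∞) = zp
    rw [hw₀i, hdtx, mul_zero]
  have hw0 : w zp = ∞ := by
    show dt (w₀ zp) = ∞
    rw [hw₀0, hdti]
  have hw1 : w ((1 : ZMod q) : OnePoint (ZMod q)) = ((a : ZMod q) : OnePoint (ZMod q)) := by
    show dt (w₀ _) = _
    rw [hy₁, hdtx, hta]
  have hwne : ∀ x : ZMod q, x ≠ 0 → ∃ y : ZMod q,
      w (x : OnePoint (ZMod q)) = (y : OnePoint (ZMod q)) := by
    intro x hx
    obtain ⟨y, -, hy⟩ := hw₀ne x hx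
    exact ⟨t * y, by show dt (w₀ _) = _; rw [hy, hdtx]⟩
  choose f hf using hwne
  -- `w` normalises the dilations
  obtain ⟨d₁, hd₁, hd₁i, hd₁x⟩ := hdil_s (g ^ 2) (by simpa using hgm 1)
  have hd₁0 : d₁ zp = zp := (hd₁x 0).trans (by rw [mul_zero])
  have he : w * d₁ * w⁻¹ ∈ H := mul_mem (mul_mem hwH hd₁) (inv_mem hwH)
  have hei : (w * d₁ * w⁻¹) ∞ = ∞ := by
    show w (d₁ (w⁻¹ ∞)) = ∞
    rw [show w⁻¹ (∞ : OnePoint (ZMod q)) = zp from by
      rw [Equiv.Perm.inv_eq_iff_eq]; exact hw0.symm, hd₁0, hw0]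
  have he0 : (w * d₁ * w⁻¹) zp = zp := by
    show w (d₁ (w⁻¹ zp)) = zp
    rw [show w⁻¹ zp = ∞ from by rw [Equiv.Perm.inv_eq_iff_eq]; exact hwi.symm, hd₁i, hwi]
  obtain ⟨sj, hsj⟩ := haff0 _ he hei he0
  obtain ⟨j, hjm, rfl⟩ := hsq sj (hpow _ he hei he0 sj hsj)
  have hstep : ∀ x y : ZMod q, w (x : OnePoint (ZMod q)) = (y : OnePoint (ZMod q)) →
      w ((g ^ 2 * x : ZMod q) : OnePoint (ZMod q)) =
        ((g ^ (2 * j) * y : ZMod q) : OnePoint (ZMod q)) := by
    intro x y hxy
    have h1 : w (d₁ (w⁻¹ (y : OnePoint (ZMod q)))) = _ := hsj y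
    rw [show w⁻¹ (y : OnePoint (ZMod q)) = (x : OnePoint (ZMod q)) from by
      rw [Equiv.Perm.inv_eq_iff_eq]; exact hxy.symm, hd₁x] at h1
    exact h1
  have hiter : ∀ (n : ℕ) (x y : ZMod q), w (x : OnePoint (ZMod q)) = (y : OnePoint (ZMod q)) →
      w ((g ^ (2 * n) * x : ZMod q) : OnePoint (ZMod q)) =
        ((g ^ (2 * n * j) * y : ZMod q) : OnePoint (ZMod q)) := by
    intro n
    induction n with
    | zero => intro x y hxy; simpa using hxy
    | succ n ih =>
      intro x y hxy
      have h1 := hstep _ _ (ih x y hxy)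
      rw [show g ^ (2 * (n + 1)) * x = g ^ 2 * (g ^ (2 * n) * x) by ring, h1]
      ring_nf
  set b := f g hg0 with hb
  have htbl : ∀ x : ZMod q, x ≠ 0 →
      w (x : OnePoint (ZMod q)) = ((tbl g m j a b x : ZMod q) : OnePoint (ZMod q)) := by
    intro x hx
    unfold tbl
    cases h1 : (List.range m).find? (fun i => decide (g ^ (2 * i) = x)) with
    | some i =>
      have := List.find?_some h1
      rw [decide_eq_true_eq] at this
      have h := hiter i 1 a hw1
      rw [mul_one, this] at h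
      exact h
    | none =>
      cases h2 : (List.range m).find? (fun i => decide (g * g ^ (2 * i) = x)) with
      | some i =>
        have := List.find?_some h2
        rw [decide_eq_true_eq, mul_comm] at this
        have h := hiter i g b (hf g hg0)
        rw [this] at h
        exact h
      | none =>
        exfalso
        rw [List.find?_eq_none] at h1 h2
        rcases hcov x with h | ⟨i, hi, h | h⟩
        · exact hx h
        · exact absurd h.symm (by simpa using h1 i (List.mem_range.mpr hi))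
        · exact absurd h.symm (by simpa using h2 i (List.mem_range.mpr hi))
  -- `j` is an involution of the exponents
  have hjj : (g ^ 2) ^ (j * j) = g ^ 2 := by
    have hw2i : (w * w) ∞ = ∞ := (congrArg w hwi).trans hw0
    have hw20 : (w * w) zp = zp := (congrArg w hw0).trans hwi
    obtain ⟨s2, hs2⟩ := haff0 _ (mul_mem hwH hwH) hw2i hw20
    have hA := hs2 (g ^ 2)
    have hB := hs2 1
    rw [Equiv.Perm.mul_apply] at hA hB
    rw [hw1, mul_one] at hB
    have h1 := hstep 1 a hw1
    rw [mul_one] at h1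
    have h2 := hiter j a s2 hB
    rw [h1, h2] at hA
    have hs20 : s2 ≠ 0 := by
      intro e
      rw [e] at hB
      have := w.injective (hB.trans hwi.symm)
      exact OnePoint.coe_ne_infty _ this
    have h3 := OnePoint.coe_injective hA
    rw [show g ^ (2 * j * j) = (g ^ 2) ^ (j * j) by rw [← pow_mul]; ring_nf, mul_comm s2] at h3
    exact mul_right_cancel₀ hs20 h3
  have hjnc : nc = true → g ^ 2 ≠ 1 → g ^ (2 * j) ≠ g ^ 2 := by
    intro hn hg21 he2
    refine hnc hn w hwH hwi hw0 d₁ hd₁ hd₁i hd₁0 ?_ ?_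
    · intro h1
      have h2 := hd₁x 1
      rw [h1, mul_one] at h2
      exact hg21 (OnePoint.coe_injective h2).symm
    · have : w * d₁ * w⁻¹ = d₁ := by
        ext x
        induction x using OnePoint.rec with
        | infty => rw [hei, hd₁i]
        | coe x => rw [hsj, he2, hd₁x]
      exact mul_inv_eq_iff_eq_mul.mp this
  -- the relation
  have hW : ∀ x : Option (ZMod q), (w x : Option (ZMod q)) = tblW g m j a b x := by
    rintro (_ | x)
    · exact hwi
    · by_cases hx : x = 0
      · subst hx; simp only [tblW, if_pos]; exact hw0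
      · simp only [tblW, if_neg hx]; exact htbl x hx
  obtain ⟨t1, ht1, ht1i, ht1x⟩ := hT 1
  obtain ⟨t2, ht2, ht2i, ht2x⟩ := hT (-a)
  have hU1 : ∀ x : Option (ZMod q), (t1 x : Option (ZMod q)) = shift 1 x := by
    rintro (_ | x)
    · exact ht1i
    · exact ht1x x
  have hU2 : ∀ x : Option (ZMod q), (t2 x : Option (ZMod q)) = shift (-a) x := by
    rintro (_ | x)
    · exact ht2i
    · exact ht2x x
  set r := w * t2 * w * t1 * w with hr
  have hrH : r ∈ H := mul_mem (mul_mem (mul_mem (mul_mem hwH ht2) hwH) ht1) hwH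
  have hrel : ∀ x : Option (ZMod q), (r x : Option (ZMod q)) = relMap g m j a b x := fun x =>
    ((hW _).trans (congrArg _ ((hU2 _).trans (congrArg _ ((hW _).trans (congrArg _
      ((hU1 _).trans (congrArg _ (hW x)))))))))
  have hri : r ∞ = ∞ := by
    show w (t2 (w (t1 (w ∞)))) = ∞
    rw [hwi, ht1x, zero_add, hw1, ht2x, add_neg_cancel, hw0]
  obtain ⟨s, c, hsc⟩ := hN r hrH hri
  obtain ⟨tc, htc, htci, htcx⟩ := hT (-c)
  have hs : s ^ m = 1 := by
    refine hpow (tc * r) (mul_mem htc hrH) ?_ ?_ s fun x => ?_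
    · rw [Equiv.Perm.mul_apply, hri, htci]
    · rw [Equiv.Perm.mul_apply, hsc, htcx, mul_zero, zero_add, add_neg_cancel]
    · rw [Equiv.Perm.mul_apply, hsc, htcx, add_neg_cancel_right]
  have hrelx : ∀ x : ZMod q, relMap g m j a b (some x) = some (s * x + c) := fun x =>
    (hrel (some x)).symm.trans (hsc x)
  have hvalid : Valid g m j a b := by
    refine ⟨?_, fun x => ?_⟩
    · rw [hrelx, hrelx]; simpa using hs
    · rw [hrelx, hrelx, hrelx]; simp
  obtain ⟨ρ, hρ0, hρ⟩ := hmain j hjm hjj hjnc a ha b hvalid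
  obtain ⟨dρ, hdρ, hdρi, hdρx⟩ := hdil_s (ρ⁻¹ * ρ⁻¹) (hfer _ (inv_ne_zero hρ0))
  have hcardpsl : Nat.card ↥H =
      Nat.card (Matrix.ProjectiveSpecialLinearGroup (Fin 2) (ZMod q)) := by
    have h := Cfsg.Agent.Lib.Linear.two_mul_card_PSL_two_of_odd (F := ZMod q)
      (by rw [ZMod.card]; exact hqp.odd_of_ne_two (by omega))
    rw [ZMod.card, ← hcard] at h
    exact (Nat.eq_of_mul_eq_mul_left (by norm_num) h).symm
  refine ProjLine.mulEquiv_of_generators H hcardpsl hT (fun s hs0 => hdil_s _ (hfer s hs0))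
    ⟨dρ * w, mul_mem hdρ hwH, ?_, ?_, fun x hx => ?_⟩
  · rw [Equiv.Perm.mul_apply, hwi, hdρx, mul_zero]
  · rw [Equiv.Perm.mul_apply, hw0, hdρi]
  · rw [Equiv.Perm.mul_apply, htbl x hx, hdρx]
    congr 1
    have := hρ x hx
    field_simp
    linear_combination this

open Subgroup in
/-- A simple group of order `q(q-1)(q+1)/2` with `q+1` Sylow `q`-subgroups is `PSL(2,q)`. -/
theorem mulEquiv_psl_of_sylow {G : Type*} [Group G] [Finite G] [IsSimpleGroup G] [Fact q.Prime]
    (g : ZMod q) (nc : Bool) (hq : 2 < q) (hck : PrimeCheck q g nc)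
    (hcard : 2 * Nat.card G = q * (q - 1) * (q + 1)) (hn : Nat.card (Sylow q G) = q + 1)
    (hnc : nc = true → ∀ d : G, orderOf d ∣ (q - 1) / 2 → d ≠ 1 →
      ¬ Even (Nat.card ↥(centralizer ({d} : Set G))))
    {F : Type*} [Field F] [Fintype F] (hF : Fintype.card F = q) :
    Nonempty (G ≃* Matrix.ProjectiveSpecialLinearGroup (Fin 2) F) := by
  classical
  have hqp : q.Prime := Fact.out
  obtain ⟨m, hm⟩ : ∃ m, q = 2 * m + 1 := hqp.odd_of_ne_two (by omega)
  have hm0 : 0 < m := by omega
  have hG : Nat.card G = q ^ 1 * (m * (q + 1)) := by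
    rw [pow_one]
    have h : q * (q - 1) * (q + 1) = 2 * (q * (m * (q + 1))) := by
      rw [show q - 1 = 2 * m by omega]; ring
    omega
  have hnd : ¬ q ∣ m * (q + 1) := by
    rw [hqp.dvd_mul]
    rintro (h | h)
    · exact absurd (Nat.le_of_dvd hm0 h) (by omega)
    · rw [Nat.dvd_add_right (dvd_refl q), Nat.dvd_one] at h; omega
  let P : Sylow q G := default
  have hPc : ∀ S : Sylow q G, Nat.card ↥(S : Subgroup G) = q := fun S => by
    simpa using Sylow.card_sylow_eq S hG hnd
  have hmem : ∀ (x : G) (S : Sylow q G), x • S = S ↔ x ∈ normalizer ((S : Subgroup G) : Set G) :=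
    fun x S => _root_.Sylow.smul_eq_iff_mem_normalizer
  have hNP : Nat.card ↥(normalizer ((P : Subgroup G) : Set G)) = q * m := by
    have := Sylow.card_normalizer_mul P
    rw [hn, hG, pow_one, ← mul_assoc] at this
    exact Nat.eq_of_mul_eq_mul_right (by omega) this
  -- a generator of `P`
  have hcyc : IsCyclic ↥(P : Subgroup G) := isCyclic_of_prime_card (hPc P)
  obtain ⟨⟨u, huP⟩, hu⟩ := hcyc.exists_ofOrder_eq_natCard
  rw [hPc P, Subgroup.orderOf_mk] at hu
  have hzu : zpowers u = (P : Subgroup G) :=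
    eq_of_le_of_card_ge (zpowers_le.mpr huP) (by rw [hPc, Nat.card_zpowers, hu])
  obtain ⟨R, hR⟩ : ∃ R : Sylow q G, R ≠ P := by
    by_contra hc
    push Not at hc
    have : Subsingleton (Sylow q G) := ⟨fun A B => (hc A).trans (hc B).symm⟩
    rw [Nat.card_unique] at hn
    omega
  have hfixP : ∀ n : ℕ, u ^ n • P = P := fun n => (hmem _ _).mpr (le_normalizer (pow_mem huP n))
  -- `u` has a single fixed point
  have honly : ∀ S : Sylow q G, u • S = S → S = P := by
    intro S h
    rw [hmem] at h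
    refine _root_.Sylow.ext (eq_of_le_of_card_ge ?_ (by rw [hPc, hPc])).symm
    rw [← hzu]
    intro x hx
    exact (((IsPGroup.of_card (n := 1) (by rw [Nat.card_zpowers, hu, pow_one]) :
      IsPGroup q ↥(zpowers u)).inf_normalizer_sylow S).le ⟨hx, zpowers_le.mpr h hx⟩).2
  have hu1 : ∀ n : ℕ, u ^ n • R = R → q ∣ n := by
    intro n h
    by_contra hndvd
    obtain ⟨k, hk⟩ := exists_pow_eq_self_of_coprime (x := u) (n := n)
      (by rw [hu]; exact (hqp.coprime_iff_not_dvd.mpr hndvd).symm)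
    apply hR
    refine honly R ?_
    rw [← hk, hmem]
    exact pow_mem ((hmem _ _).mp h) k
  let e : OnePoint (ZMod q) → Sylow q G := fun x => x.elim P (fun i => u ^ i.val • R)
  have hval : ∀ (k : ℕ), u ^ ((k : ZMod q)).val = u ^ k := fun k => by
    rw [ZMod.val_natCast, ← hu, pow_mod_orderOf]
  have he : Function.Bijective e := by
    rw [Nat.bijective_iff_injective_and_card]
    refine ⟨?_, ?_⟩
    · intro x y hxy
      induction x using OnePoint.rec with
      | infty =>
        induction y using OnePoint.rec with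
        | infty => rfl
        | coe y =>
          exfalso
          change P = u ^ y.val • R at hxy
          have := congrArg (fun S => (u ^ y.val)⁻¹ • S) hxy
          simp only [inv_smul_smul] at this
          rw [inv_smul_eq_iff.mpr (hfixP y.val).symm] at this
          exact hR this.symm
      | coe x =>
        induction y using OnePoint.rec with
        | infty =>
          exfalso
          change u ^ x.val • R = P at hxy
          have := congrArg (fun S => (u ^ x.val)⁻¹ • S) hxy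
          simp only [inv_smul_smul] at this
          rw [inv_smul_eq_iff.mpr (hfixP x.val).symm] at this
          exact hR this
        | coe y =>
          change u ^ x.val • R = u ^ y.val • R at hxy
          have h1 : u ^ ((y - x : ZMod q)).val • R = R := by
            have hy : u ^ y.val = u ^ x.val * u ^ (y - x).val := by
              rw [← pow_add, ← hval (x.val + (y - x).val), Nat.cast_add, ZMod.natCast_rightInverse,
                ZMod.natCast_rightInverse, add_sub_cancel]
            rw [hy, mul_smul] at hxy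
            exact (smul_left_cancel _ hxy).symm
          have h2 := hu1 _ h1
          have h3 : (y - x : ZMod q) = 0 := by
            rw [← ZMod.natCast_rightInverse (y - x)]
            exact (ZMod.natCast_eq_zero_iff _ _).mpr h2
          rw [sub_eq_zero] at h3
          rw [h3]
    · rw [hn, Nat.card_eq_fintype_card]
      show Fintype.card (Option (ZMod q)) = q + 1
      rw [Fintype.card_option, ZMod.card]
  let ee : OnePoint (ZMod q) ≃ Sylow q G := Equiv.ofBijective e he
  let Φ : G →* Equiv.Perm (OnePoint (ZMod q)) :=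
    ee.symm.permCongrHom.toMonoidHom.comp (MulAction.toPermHom G (Sylow q G))
  have hΦ : ∀ (x : G) (p : OnePoint (ZMod q)), e (Φ x p) = x • e p := by
    intro x p
    show ee (ee.symm (x • ee p)) = _
    rw [ee.apply_symm_apply]
    rfl
  have hinj : Function.Injective Φ := by
    refine ee.symm.permCongrHom.injective.comp ?_
    rcases Sylow.injective_or_trivial (MulAction.toPermHom G (Sylow q G)) with h | h
    · exact h
    · exfalso
      obtain ⟨x, hx⟩ := MulAction.exists_smul_eq G P R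
      have hfix : x • P = P := congrArg (fun e : Equiv.Perm (Sylow q G) => e P) (h x)
      exact hR (hx.symm.trans hfix)
  have hei : ∀ x p, Φ x p = ∞ ↔ x • e p = P := fun x p =>
    ⟨fun h => by rw [← hΦ, h]; rfl, fun h => he.1 (by rw [hΦ, h]; rfl)⟩
  have hne : ∀ x : ZMod q, e (x : OnePoint (ZMod q)) = u ^ x.val • R := fun x => rfl
  have hu_shift : ∀ (n : ℕ) (x : ZMod q),
      Φ (u ^ n) (x : OnePoint (ZMod q)) = ((x + n : ZMod q) : OnePoint (ZMod q)) := by
    intro n x
    apply he.1
    rw [hΦ, hne, hne, ← mul_smul, ← pow_add, ← hval (n + x.val), Nat.cast_add,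
      ZMod.natCast_rightInverse, add_comm]
  have hN : ∀ x : G, x • P = P → ∃ s b : ZMod q, ∀ y : ZMod q,
      Φ x (y : OnePoint (ZMod q)) = ((s * y + b : ZMod q) : OnePoint (ZMod q)) := by
    intro x hx
    have hxN := (hmem _ _).mp hx
    have hxu : x * u * x⁻¹ ∈ (P : Subgroup G) := (mem_normalizer_iff.mp hxN u).mp huP
    rw [← hzu] at hxu
    obtain ⟨k, hk⟩ : ∃ k : ℕ, u ^ k = x * u * x⁻¹ := by
      rw [mem_zpowers_iff_mem_range_orderOf, Finset.mem_image] at hxu
      obtain ⟨k, -, hk⟩ := hxu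
      exact ⟨k, hk⟩
    obtain ⟨b, hb⟩ : ∃ b : ZMod q, x • R = u ^ b.val • R := by
      obtain ⟨p, hp⟩ := he.2 (x • R)
      induction p using OnePoint.rec with
      | infty =>
        exfalso
        apply hR
        change P = x • R at hp
        rw [← inv_smul_smul x R, ← hp, inv_smul_eq_iff]
        exact hx.symm
      | coe b => exact ⟨b, hp.symm⟩
    refine ⟨k, b, fun y => ?_⟩
    apply he.1
    rw [hΦ, hne, hne]
    have h1 : x * u ^ y.val = u ^ (k * y.val) * x := by
      rw [pow_mul, hk, conj_pow, inv_mul_cancel_right]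
    rw [← mul_smul, h1, mul_smul, hb, ← mul_smul, ← pow_add, ← hval (k * y.val + b.val),
      Nat.cast_add, Nat.cast_mul, ZMod.natCast_rightInverse, ZMod.natCast_rightInverse]
  obtain ⟨F'⟩ : Nonempty (↥Φ.range ≃* Matrix.ProjectiveSpecialLinearGroup (Fin 2) (ZMod q)) := by
    refine mulEquiv_of_coords g nc hq hck Φ.range ?_ ?_ ?_ ?_ ?_
    · rw [← Nat.card_congr (MonoidHom.ofInjective hinj).toEquiv, hcard]
    · intro b
      refine ⟨Φ (u ^ b.val), ⟨_, rfl⟩, (hei _ _).mpr (hfixP _), fun x => ?_⟩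
      rw [hu_shift, ZMod.natCast_rightInverse]
    · rintro _ ⟨x, rfl⟩ hfix
      exact hN x ((hei _ _).mp hfix)
    · -- two-transitivity
      obtain ⟨a, ha⟩ := MulAction.exists_smul_eq G P R
      obtain ⟨p, hp⟩ := he.2 (a⁻¹ • P)
      induction p using OnePoint.rec with
      | infty =>
        exfalso
        apply hR
        change P = a⁻¹ • P at hp
        rw [← ha]
        conv_lhs => rw [hp]
        rw [smul_inv_smul]
      | coe k =>
        rw [hne] at hp
        have hxR : (a * u ^ k.val) • R = P := by rw [mul_smul, hp, smul_inv_smul]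
        have hxP : (a * u ^ k.val) • P = R := by rw [mul_smul, hfixP, ha]
        have h00 : e ((0 : ZMod q) : OnePoint (ZMod q)) = R := by
          rw [hne, ZMod.val_zero, pow_zero, one_smul]
        refine ⟨Φ (a * u ^ k.val), ⟨_, rfl⟩, he.1 ?_, (hei _ _).mpr ?_⟩
        · rw [hΦ, h00]; exact hxP
        · rw [h00]; exact hxR
    · rintro hn' _ ⟨w, rfl⟩ hwi hw0 _ ⟨d, rfl⟩ hdi hd0 hd1 hcomm
      rw [← map_mul, ← map_mul] at hcomm
      have hcomm' : Commute w d := hinj hcomm
      have hd : d ≠ 1 := fun h => hd1 (by rw [h, map_one])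
      have hdP : d • P = P := (hei _ _).mp hdi
      have hdR : d • R = R := by
        have := congrArg e hd0
        rw [hΦ, hne, ZMod.val_zero, pow_zero, one_smul] at this
        exact this
      have hdord : orderOf d ∣ (q - 1) / 2 := by
        rw [show (q - 1) / 2 = m by omega]
        have h1 : orderOf d ∣ q * m := by
          rw [← hNP, ← Subgroup.orderOf_mk d ((hmem _ _).mp hdP)]
          exact orderOf_dvd_natCard _
        refine Nat.Coprime.dvd_of_dvd_mul_left ?_ h1
        rw [Nat.coprime_comm, hqp.coprime_iff_not_dvd]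
        intro hdvd
        set d' := d ^ (orderOf d / q) with hd'
        have hd'o : orderOf d' = q := orderOf_pow_orderOf_div (orderOf_pos d).ne' hdvd
        have hd'N : ∀ S : Sylow q G, d • S = S → zpowers d' = (S : Subgroup G) := by
          intro S hS
          have hp : IsPGroup q ↥(zpowers d') :=
            IsPGroup.of_card (n := 1) (by rw [Nat.card_zpowers, hd'o, pow_one])
          refine eq_of_le_of_card_ge (fun x hx => ((hp.inf_normalizer_sylow S).le ⟨hx, ?_⟩).2)
            (by rw [hPc, Nat.card_zpowers, hd'o])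
          exact zpowers_le.mpr (pow_mem ((hmem _ _).mp hS) _) hx
        exact hR (_root_.Sylow.ext ((hd'N R hdR).symm.trans (hd'N P hdP)))
      refine hnc hn' d hdord hd ?_
      by_contra hodd'
      have hodd : Even (Nat.card ↥(centralizer ({d} : Set G))) → False := hodd'
      have hwC : w ∈ centralizer ({d} : Set G) := mem_centralizer_singleton_iff.mpr hcomm'.eq
      have hpow := pow_card_eq_one' (x := (⟨w, hwC⟩ : ↥(centralizer ({d} : Set G))))
      have hw' : w ^ Nat.card ↥(centralizer ({d} : Set G)) = 1 := congrArg Subtype.val hpow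
      have hwiter : ∀ n : ℕ, w ^ (2 * n + 1) • P = R := by
        have hwP : w • P = R := by
          have := congrArg e hwi
          rw [hΦ, hne, ZMod.val_zero, pow_zero, one_smul] at this
          exact this
        have hwR : w • R = P := by
          have := (hei _ _).mp hw0
          rwa [hne, ZMod.val_zero, pow_zero, one_smul] at this
        intro n
        induction n with
        | zero => rw [pow_one, hwP]
        | succ n ih =>
          rw [show 2 * (n + 1) + 1 = 1 + (1 + (2 * n + 1)) by ring, pow_add, pow_add, pow_one,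
            mul_smul, mul_smul, ih, hwR, hwP]
      obtain ⟨n, hn2⟩ : Odd (Nat.card ↥(centralizer ({d} : Set G))) := by
        rw [← Nat.not_even_iff_odd]; exact hodd
      have := hwiter n
      rw [← hn2, hw', one_smul] at this
      exact hR this.symm
  obtain ⟨c⟩ := ProjLine.psl_congr_card (F := ZMod q) (F' := F) (by rw [ZMod.card, hF])
  exact ⟨(MonoidHom.ofInjective hinj).trans (F'.trans c)⟩

end Cfsg.Agent.Lib.SmallGroups.PSLPrime
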