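import Mathlib
import Cfsg.Agent.Lib.SmallGroups.PSLPrime

/-!
# The finite checks for `q = 5, 7, 11, 13, 17, 19, 23`
-/

set_option autoImplicit false
set_option maxRecDepth 100000
set_option synthInstance.maxSize 2000

namespace Cfsg.Agent.Lib.SmallGroups.PSLPrimeChecks

open Cfsg.Agent.Lib.SmallGroups.PSLPrime

theorem check5 : PrimeCheck 5 (2 : ZMod 5) false := by
  refine ⟨by decide +kernel, by decide +kernel, by decide +kernel, by decide +kernel, ?_⟩
  decide +kernel

theorem check7 : PrimeCheck 7 (3 : ZMod 7) true := by
  refine ⟨by decide +kernel, by decide +kernel, by decide +kernel, by decide +kernel, ?_⟩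
  decide +kernel

theorem check11 : PrimeCheck 11 (2 : ZMod 11) false := by
  refine ⟨by decide +kernel, by decide +kernel, by decide +kernel, by decide +kernel, ?_⟩
  decide +kernel

theorem check13 : PrimeCheck 13 (2 : ZMod 13) false := by
  refine ⟨by decide +kernel, by decide +kernel, by decide +kernel, by decide +kernel, ?_⟩
  decide +kernel

theorem check17 : PrimeCheck 17 (3 : ZMod 17) false := by
  refine ⟨by decide +kernel, by decide +kernel, by decide +kernel, by decide +kernel, ?_⟩
  decide +kernel

theorem check19 : PrimeCheck 19 (2 : ZMod 19) false := by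
  refine ⟨by decide +kernel, by decide +kernel, by decide +kernel, by decide +kernel, ?_⟩
  decide +kernel

theorem check23 : PrimeCheck 23 (5 : ZMod 23) false := by
  refine ⟨by decide +kernel, by decide +kernel, by decide +kernel, by decide +kernel, ?_⟩
  decide +kernel

/-- If the only possible values of `n_q` are `1` and `q + 1`, the group is `PSL(2,q)`. -/
theorem mulEquiv_of_divisors {G : Type*} [Group G] [Finite G] [IsSimpleGroup G] (q m : ℕ)
    [Fact q.Prime] (g : ZMod q) (hck : PrimeCheck q g false) (hq : 2 < q) (hm : q = 2 * m + 1)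
    (hcard : Nat.card G = q ^ 1 * (m * (q + 1))) (hnd : ¬ q ∣ m * (q + 1))
    (hdiv : (m * (q + 1)).divisors.filter (fun d => d % q = 1) = {1, q + 1})
    {F : Type*} [Field F] [Fintype F] (hF : Fintype.card F = q) :
    Nonempty (G ≃* Matrix.ProjectiveSpecialLinearGroup (Fin 2) F) := by
  have hm0 : 1 ≤ m := by omega
  have hne := Sylow.card_sylow_ne_one (G := G) (p := q) hcard hnd one_ne_zero (by nlinarith)
  have hmem := Sylow.card_sylow_mem (G := G) (p := q) hcard hnd
  rw [hdiv] at hmem
  simp only [Finset.mem_insert, Finset.mem_singleton] at hmem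
  refine mulEquiv_psl_of_sylow g false hq hck ?_ (hmem.resolve_left hne) (by simp) hF
  rw [hcard, show q - 1 = 2 * m by omega, pow_one]
  ring

end Cfsg.Agent.Lib.SmallGroups.PSLPrimeChecks
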