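import Mathlib
import Cfsg.Agent.Lib.SmallGroups.PSLPrimeChecks
import Cfsg.Agent.Lib.SmallGroups.Order168

/-!
# Simple groups of order 60, 168, 660 and 1092 are `PSL(2,q)`
-/

set_option autoImplicit false

namespace Cfsg.Agent.Lib.SmallGroups.RecogSmall

open Cfsg.Agent.Lib.SmallGroups.PSLPrime Cfsg.Agent.Lib.SmallGroups.PSLPrimeChecks

variable {G : Type*} [Group G] [Finite G] [IsSimpleGroup G] {F : Type*} [Field F] [Fintype F]

theorem psl_five (h : Nat.card G = 60) (hF : Fintype.card F = 5) :
    Nonempty (G ≃* Matrix.ProjectiveSpecialLinearGroup (Fin 2) F) := by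
  have : Fact (Nat.Prime 5) := ⟨by norm_num⟩
  exact mulEquiv_of_divisors 5 2 (2 : ZMod 5) check5 (by norm_num) (by norm_num)
    (by rw [h]; norm_num) (by norm_num) (by decide +kernel) hF

theorem psl_seven (h : Nat.card G = 168) (hF : Fintype.card F = 7) :
    Nonempty (G ≃* Matrix.ProjectiveSpecialLinearGroup (Fin 2) F) := by
  have : Fact (Nat.Prime 7) := ⟨by norm_num⟩
  refine mulEquiv_psl_of_sylow (3 : ZMod 7) true (by norm_num) check7 (by rw [h])
    (Order168.card_sylow7 h) ?_ hF
  intro _ d hd hd1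
  rcases Order168.order_cases h d with e | e | e
  · rw [e.2]; decide
  · rw [e.1] at hd; norm_num at hd
  · exfalso
    apply hd1
    exact orderOf_eq_one_iff.mp (Nat.eq_one_of_dvd_coprimes (by norm_num : Nat.Coprime 3 8) hd e)

theorem psl_eleven (h : Nat.card G = 660) (hF : Fintype.card F = 11) :
    Nonempty (G ≃* Matrix.ProjectiveSpecialLinearGroup (Fin 2) F) := by
  have : Fact (Nat.Prime 11) := ⟨by norm_num⟩
  exact mulEquiv_of_divisors 11 5 (2 : ZMod 11) check11 (by norm_num) (by norm_num)
    (by rw [h]; norm_num) (by norm_num) (by decide +kernel) hF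

theorem psl_thirteen (h : Nat.card G = 1092) (hF : Fintype.card F = 13) :
    Nonempty (G ≃* Matrix.ProjectiveSpecialLinearGroup (Fin 2) F) := by
  have : Fact (Nat.Prime 13) := ⟨by norm_num⟩
  exact mulEquiv_of_divisors 13 6 (2 : ZMod 13) check13 (by norm_num) (by norm_num)
    (by rw [h]; norm_num) (by norm_num) (by decide +kernel) hF

end Cfsg.Agent.Lib.SmallGroups.RecogSmall
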