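import Mathlib
import Cfsg.Agent.Lib.SmallGroups.Order168

/-!
# The simple group of order 168: four-groups and maximal subgroups
-/

set_option autoImplicit false

namespace Cfsg.Agent.Lib.SmallGroups.Order168Four

open Subgroup Cfsg.Agent.Lib.SmallGroups.Sylow Cfsg.Agent.Lib.SmallGroups.Counting
  Cfsg.Agent.Lib.SmallGroups.Order168

variable {G : Type*} [Group G]

/-- The conjugate of `U` by `g`. -/
theorem mem_map_conj {U : Subgroup G} {g x : G} :
    x ∈ U.map (MulAut.conj g).toMonoidHom ↔ g⁻¹ * x * g ∈ U := by
  constructor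
  · rintro ⟨u, hu, rfl⟩
    simpa [mul_assoc] using hu
  · intro h
    exact ⟨_, h, by simp [mul_assoc]⟩

theorem map_conj_mul (U : Subgroup G) (g k : G) :
    (U.map (MulAut.conj g).toMonoidHom).map (MulAut.conj k).toMonoidHom =
      U.map (MulAut.conj (k * g)).toMonoidHom := by
  ext x
  simp [mem_map_conj, mul_assoc]

theorem map_conj_one (U : Subgroup G) : U.map (MulAut.conj (1 : G)).toMonoidHom = U := by
  ext x
  simp [mem_map_conj]

theorem map_conj_of_mem {U : Subgroup G} {g : G} (hg : g ∈ normalizer (U : Set G)) :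
    U.map (MulAut.conj g).toMonoidHom = U := by
  ext x
  rw [mem_map_conj]
  exact (mem_normalizer_iff''.mp hg x).symm

theorem normalizer_map_conj (U : Subgroup G) (g : G) :
    normalizer ((U.map (MulAut.conj g).toMonoidHom : Subgroup G) : Set G) =
      (normalizer (U : Set G)).map (MulAut.conj g).toMonoidHom :=
  (map_normalizer_eq_of_bijective U (f := (MulAut.conj g).toMonoidHom)
    (MulAut.conj g).bijective).symm

theorem card_map_conj (U : Subgroup G) (g : G) :
    Nat.card ↥(U.map (MulAut.conj g).toMonoidHom) = Nat.card ↥U :=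
  (Nat.card_congr (U.equivMapOfInjective _ (MulAut.conj g).injective).toEquiv).symm

/-- `U` and a further element generate a commutative group of twice its order if central. -/
theorem comm_of_central_index_two {U T : Subgroup G} (hUT : U ≤ T)
    (hcen : ∀ t ∈ T, ∀ u ∈ U, t * u = u * t) (hidx : U.relIndex T = 2) :
    ∀ a ∈ T, ∀ b ∈ T, a * b = b * a := by
  intro a ha b hb
  by_cases ha' : a ∈ U
  · exact (hcen b hb a ha').symm
  by_cases hb' : b ∈ U
  · exact hcen a ha b hb'
  have : a⁻¹ * b ∈ U := by
    have h2 := mul_mem_iff_of_index_two (H := U.subgroupOf T) hidx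
      (a := (⟨a, ha⟩ : ↥T)⁻¹) (b := ⟨b, hb⟩)
    simp only [mem_subgroupOf, Subgroup.coe_mul, InvMemClass.coe_inv, inv_mem_iff] at h2
    exact h2.mpr (iff_of_false ha' hb')
  obtain ⟨v, hv, rfl⟩ : ∃ v ∈ U, a * v = b := ⟨a⁻¹ * b, this, mul_inv_cancel_left a b⟩
  have := hcen a ha v hv
  rw [mul_assoc a v a, ← this]

variable [Finite G] [IsSimpleGroup G]

theorem orderOf_of_kleinFour {U : Subgroup G} (hU : IsKleinFour ↥U) {u : G} (hu : u ∈ U)
    (hu1 : u ≠ 1) : orderOf u = 2 := by
  have h2 : (⟨u, hu⟩ : ↥U) * ⟨u, hu⟩ = 1 := IsKleinFour.mul_self _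
  refine orderOf_eq_prime ?_ hu1
  rw [pow_two]
  exact congrArg Subtype.val h2

theorem relIndex_two (h : Nat.card G = 168) {U : Subgroup G} (hU : IsKleinFour ↥U) (T : Sylow 2 G)
    (hUT : U ≤ (T : Subgroup G)) : U.relIndex (T : Subgroup G) = 2 := by
  have h1 := Subgroup.card_mul_index (U.subgroupOf (T : Subgroup G))
  rw [Nat.card_congr (subgroupOfEquivOfLe hUT).toEquiv, hU.card_four, card_of_sylow2 h T] at h1
  show (U.subgroupOf (T : Subgroup G)).index = 2
  omega

theorem le_normalizer_of_le (h : Nat.card G = 168) {U : Subgroup G} (hU : IsKleinFour ↥U)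
    (T : Sylow 2 G) (hUT : U ≤ (T : Subgroup G)) :
    (T : Subgroup G) ≤ normalizer (U : Set G) :=
  (normal_subgroupOf_iff_le_normalizer hUT).mp (normal_of_index_eq_two (relIndex_two h hU T hUT))

/-- The centralizer of an involution is a Sylow 2-subgroup. -/
theorem exists_sylow_centralizer (h : Nat.card G = 168) {u : G} (hu : orderOf u = 2) :
    ∃ T : Sylow 2 G, (T : Subgroup G) = centralizer ({u} : Set G) := by
  have : Fact (Nat.Prime 2) := ⟨by norm_num⟩
  refine ⟨Sylow.ofCard (centralizer ({u} : Set G)) ?_, rfl⟩
  rw [card_centralizer2 h hu]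
  exact (card_of_sylow2 h (default : Sylow 2 G)).symm.trans
    (default : Sylow 2 G).card_eq_multiplicity

theorem kleinFour_comm {U : Subgroup G} (hU : IsKleinFour ↥U) {a b : G} (ha : a ∈ U)
    (hb : b ∈ U) : a * b = b * a := by
  have := hU.isMulCommutative
  exact congrArg Subtype.val (this.is_comm.comm (⟨a, ha⟩ : ↥U) ⟨b, hb⟩)

theorem kleinFour_le_centralizer (U : Subgroup G) (hU : IsKleinFour ↥U) :
    U ≤ centralizer (U : Set G) := fun _ ha _ hb => kleinFour_comm hU hb ha

/-- For distinct involutions of a four-group the centralizers differ and meet in the four-group. -/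
theorem centralizer_inf (h : Nat.card G = 168) {U : Subgroup G} (hU : IsKleinFour ↥U) {u v : G}
    (hu : u ∈ U) (hv : v ∈ U) (hu1 : u ≠ 1) (hv1 : v ≠ 1) (huv : u ≠ v) :
    centralizer ({u} : Set G) ⊓ centralizer ({v} : Set G) = U := by
  obtain ⟨T, hT⟩ := exists_sylow_centralizer h (orderOf_of_kleinFour hU hu hu1)
  have hUu : ∀ w ∈ U, U ≤ centralizer ({w} : Set G) := fun w hw x hx =>
    mem_centralizer_singleton_iff.mpr (kleinFour_comm hU hx hw)
  have hle : U ≤ centralizer ({u} : Set G) ⊓ centralizer ({v} : Set G) :=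
    le_inf (hUu u hu) (hUu v hv)
  refine (eq_of_le_of_card_ge hle ?_).symm
  by_contra hlt
  rw [not_le, hU.card_four] at hlt
  -- then `C(u) = C(v)` and `U` is central in a Sylow 2-subgroup
  have hd := Subgroup.card_dvd_of_le
    (inf_le_left : centralizer ({u} : Set G) ⊓ centralizer ({v} : Set G) ≤ _)
  rw [card_centralizer2 h (orderOf_of_kleinFour hU hu hu1)] at hd
  have hd' : Nat.card ↥(centralizer ({u} : Set G) ⊓ centralizer ({v} : Set G)) ∈
      (8 : ℕ).divisors := Nat.mem_divisors.mpr ⟨hd, by norm_num⟩
  rw [show (8 : ℕ).divisors = {1, 2, 4, 8} by decide] at hd'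
  simp only [Finset.mem_insert, Finset.mem_singleton] at hd'
  have h8 : Nat.card ↥(centralizer ({u} : Set G) ⊓ centralizer ({v} : Set G)) = 8 := by omega
  have heq : centralizer ({u} : Set G) ⊓ centralizer ({v} : Set G) = (T : Subgroup G) :=
    eq_of_le_of_card_ge (hT.symm ▸ inf_le_left) (by rw [h8, card_of_sylow2 h T])
  have hUT : U ≤ (T : Subgroup G) := heq ▸ hle
  refine sylow2_not_comm h T (comm_of_central_index_two hUT ?_ (relIndex_two h hU T hUT))
  intro t ht w hw
  have htuv := heq.symm.le ht
  have htu := mem_centralizer_singleton_iff.mp htuv.1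
  have htv := mem_centralizer_singleton_iff.mp htuv.2
  by_cases hw1 : w = 1
  · simp [hw1]
  by_cases hwu : w = u
  · rw [hwu]; exact htu
  by_cases hwv : w = v
  · rw [hwv]; exact htv
  · have : w = u * v := by
      have hmul := IsKleinFour.eq_mul_of_ne_all (x := (⟨u, hu⟩ : ↥U)) (y := ⟨v, hv⟩) (z := ⟨w, hw⟩)
        (fun e => hu1 (congrArg Subtype.val e)) (fun e => hv1 (congrArg Subtype.val e))
        (fun e => huv (congrArg Subtype.val e)) (fun e => hw1 (congrArg Subtype.val e))
        (fun e => hwu (congrArg Subtype.val e)) (fun e => hwv (congrArg Subtype.val e))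
      exact congrArg Subtype.val hmul
    rw [this]
    exact (Commute.mul_right (show Commute t u from htu) (show Commute t v from htv)).eq

omit [IsSimpleGroup G] in
theorem exists_two_mem {U : Subgroup G} (hU : IsKleinFour ↥U) :
    ∃ u v : G, u ∈ U ∧ v ∈ U ∧ u ≠ 1 ∧ v ≠ 1 ∧ u ≠ v := by
  classical
  have := Fintype.ofFinite ↥U
  have h3 : 2 < (Finset.univ : Finset ↥U).card := by
    rw [Finset.card_univ, ← Nat.card_eq_fintype_card, hU.card_four]; norm_num
  obtain ⟨a, b, c, -, -, -, hab, hac, hbc⟩ := Finset.two_lt_card_iff.mp h3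
  by_cases ha : a = 1
  · subst ha
    exact ⟨b, c, b.2, c.2, fun e => hab (Subtype.ext e.symm), fun e => hac (Subtype.ext e.symm),
      fun e => hbc (Subtype.ext e)⟩
  by_cases hb : b = 1
  · subst hb
    exact ⟨a, c, a.2, c.2, fun e => ha (Subtype.ext e), fun e => hbc (Subtype.ext e.symm),
      fun e => hac (Subtype.ext e)⟩
  · exact ⟨a, b, a.2, b.2, fun e => ha (Subtype.ext e), fun e => hb (Subtype.ext e),
      fun e => hab (Subtype.ext e)⟩

theorem centralizer_four (h : Nat.card G = 168) {U : Subgroup G} (hU : IsKleinFour ↥U) :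
    centralizer (U : Set G) = U := by
  obtain ⟨u, v, hu, hv, hu1, hv1, huv⟩ := exists_two_mem hU
  refine le_antisymm ?_ (kleinFour_le_centralizer U hU)
  conv_rhs => rw [← centralizer_inf h hU hu hv hu1 hv1 huv]
  exact le_inf (centralizer_le (Set.singleton_subset_iff.mpr hu))
    (centralizer_le (Set.singleton_subset_iff.mpr hv))

/-- Two distinct Sylow 2-subgroups inside the normalizer, meeting in the four-group. -/
theorem exists_two_sylow (h : Nat.card G = 168) {U : Subgroup G} (hU : IsKleinFour ↥U) :
    ∃ S T : Sylow 2 G, S ≠ T ∧ U = (S : Subgroup G) ⊓ (T : Subgroup G) ∧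
      (S : Subgroup G) ≤ normalizer (U : Set G) ∧ (T : Subgroup G) ≤ normalizer (U : Set G) := by
  obtain ⟨u, v, hu, hv, hu1, hv1, huv⟩ := exists_two_mem hU
  obtain ⟨S, hS⟩ := exists_sylow_centralizer h (orderOf_of_kleinFour hU hu hu1)
  obtain ⟨T, hT⟩ := exists_sylow_centralizer h (orderOf_of_kleinFour hU hv hv1)
  have hinf := centralizer_inf h hU hu hv hu1 hv1 huv
  rw [← hS, ← hT] at hinf
  refine ⟨S, T, ?_, hinf.symm, le_normalizer_of_le h hU S (hinf ▸ inf_le_left),
    le_normalizer_of_le h hU T (hinf ▸ inf_le_right)⟩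
  rintro rfl
  rw [inf_idem] at hinf
  have := card_of_sylow2 h S
  rw [hinf, hU.card_four] at this
  norm_num at this

theorem card_normalizer_four (h : Nat.card G = 168) {U : Subgroup G} (hU : IsKleinFour ↥U) :
    Nat.card ↥(normalizer (U : Set G)) = 24 := by
  have : Fact (Nat.Prime 2) := ⟨by norm_num⟩
  obtain ⟨S, T, hST, hinf, -, -⟩ := exists_two_sylow h hU
  obtain ⟨-, -, m, d, hN, hdm, -, hd, -⟩ := normalizer_inf_of_index_prime S T hST
    (by rw [← hinf, hU.card_four, card_of_sylow2 h S])
  rw [← hinf, card_of_sylow2 h S] at hN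
  have hmul := card_centralizer_mul_relIndex U
  rw [centralizer_four h hU, hU.card_four, hN] at hmul
  have hdiv : U.relIndex (normalizer (U : Set G)) ∣ 6 := by
    have h1 := (relIndex_dvd_card_mulAut U).trans (card_mulAut_dvd_factorial ↥U)
    rw [centralizer_four h hU, hU.card_four] at h1
    exact h1
  have hle := Nat.le_of_dvd (by norm_num) hdiv
  rw [hN]
  have hm : 0 < m := by
    rcases Nat.eq_zero_or_pos m with h0 | h0
    · subst h0
      have := Nat.card_pos (α := ↥(normalizer (U : Set G)))
      omega
    · exact h0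
  have := Nat.le_of_dvd hm hdm
  omega

theorem normalizer_four_iso (h : Nat.card G = 168) {U : Subgroup G} (hU : IsKleinFour ↥U) :
    Nonempty (↥(normalizer (U : Set G)) ≃* Equiv.Perm (Fin 4)) :=
  Order24.mulEquiv_perm_four (card_normalizer_four h hU) fun g hg => by
    rw [← Subgroup.orderOf_coe] at hg
    rcases orderOf_mem h (g : G) with e | e | e | e | e <;> omega

/-- A normal four-group of `N(U)` is `U`. -/
theorem eq_of_le_normalizer (h : Nat.card G = 168) {U W : Subgroup G} (hU : IsKleinFour ↥U)
    (hW : IsKleinFour ↥W) (hWN : W ≤ normalizer (U : Set G))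
    (hNW : normalizer (U : Set G) ≤ normalizer (W : Set G)) : U = W := by
  have : Fact (Nat.Prime 2) := ⟨by norm_num⟩
  obtain ⟨S, T, -, hinf, hS, hT⟩ := exists_two_sylow h hU
  have hWn : (W.subgroupOf (normalizer (U : Set G))).Normal :=
    (normal_subgroupOf_iff_le_normalizer hWN).mpr hNW
  have hWp : IsPGroup 2 ↥(W.subgroupOf (normalizer (U : Set G))) :=
    IsPGroup.of_card (n := 2)
      (by rw [Nat.card_congr (subgroupOfEquivOfLe hWN).toEquiv, hW.card_four]; norm_num)
  have key : ∀ R : Sylow 2 G, (R : Subgroup G) ≤ normalizer (U : Set G) → W ≤ (R : Subgroup G) := by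
    intro R hR x hx
    exact hWp.le_sylow_of_normal (R.subtype hR) (show (⟨x, hWN hx⟩ : ↥(normalizer (U : Set G))) ∈
      W.subgroupOf (normalizer (U : Set G)) from hx)
  have hle : W ≤ U := hinf ▸ le_inf (key S hS) (key T hT)
  exact (eq_of_le_of_card_ge hle (by rw [hW.card_four, hU.card_four])).symm

omit [Finite G] [IsSimpleGroup G] in
theorem kleinFour_map_conj {U : Subgroup G} (hU : IsKleinFour ↥U) (g : G) :
    IsKleinFour ↥(U.map (MulAut.conj g).toMonoidHom) where
  card_four := by rw [card_map_conj, hU.card_four]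
  exponent_two := (Monoid.exponent_eq_of_mulEquiv
    (U.equivMapOfInjective _ (MulAut.conj g).injective).symm).trans hU.exponent_two

/-- Distinct four-groups in one Sylow 2-subgroup are not conjugate. -/
theorem not_conj (h : Nat.card G = 168) (T : Sylow 2 G) {U W : Subgroup G}
    (hUT : U ≤ (T : Subgroup G)) (hWT : W ≤ (T : Subgroup G)) (hU : IsKleinFour ↥U)
    (hW : IsKleinFour ↥W) (hne : U ≠ W) (g : G) : U.map (MulAut.conj g).toMonoidHom ≠ W := by
  intro he
  have : Fact (Nat.Prime 2) := ⟨by norm_num⟩
  have hcoe : ((g • T : Sylow 2 G) : Subgroup G) =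
      (T : Subgroup G).map (MulAut.conj g).toMonoidHom := rfl
  have h1 : ((g • T : Sylow 2 G) : Subgroup G) ≤ normalizer (W : Set G) := by
    refine le_normalizer_of_le h hW _ ?_
    rw [hcoe, ← he]
    exact Subgroup.map_mono hUT
  have h2 := le_normalizer_of_le h hW T hWT
  obtain ⟨n, hn⟩ := MulAction.exists_smul_eq ↥(normalizer (W : Set G))
    ((g • T).subtype h1) (T.subtype h2)
  rw [_root_.Sylow.smul_subtype] at hn
  have hT : ((n : G) * g) • T = T := by
    rw [mul_smul]
    exact _root_.Sylow.subtype_injective hn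
  have hmem : (n : G) * g ∈ (T : Subgroup G) := by
    rw [← normalizer2_eq h T]
    exact _root_.Sylow.smul_eq_iff_mem_normalizer.mp hT
  have h3 := map_conj_of_mem (le_normalizer_of_le h hU T hUT hmem)
  rw [← map_conj_mul, he, map_conj_of_mem n.2] at h3
  exact hne h3.symm

/-- The four-groups of `DihedralGroup 4`. -/
theorem dihedral_four_card : Nat.card {V : Subgroup (DihedralGroup 4) // IsKleinFour ↥V} = 2 := by
  classical
  let A : Finset (DihedralGroup 4) :=
    {DihedralGroup.r 0, DihedralGroup.r 2, DihedralGroup.sr 0, DihedralGroup.sr 2}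
  let B : Finset (DihedralGroup 4) :=
    {DihedralGroup.r 0, DihedralGroup.r 2, DihedralGroup.sr 1, DihedralGroup.sr 3}
  have key : ∀ s : Finset (DihedralGroup 4), s.card = 4 → (∀ x ∈ s, x * x = 1) →
      (∀ x ∈ s, ∀ y ∈ s, x * y ∈ s) → s = A ∨ s = B := by decide +kernel
  let mk : Finset (DihedralGroup 4) → Subgroup (DihedralGroup 4) := fun s =>
    Subgroup.closure (s : Set (DihedralGroup 4))
  have hmk : ∀ s : Finset (DihedralGroup 4), (1 : DihedralGroup 4) ∈ s → (∀ x ∈ s, x * x = 1) →
      (∀ x ∈ s, ∀ y ∈ s, x * y ∈ s) → ((mk s : Subgroup _) : Set (DihedralGroup 4)) = s := by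
    intro s h1 h2 h3
    let S : Subgroup (DihedralGroup 4) :=
      { carrier := (s : Set (DihedralGroup 4))
        one_mem' := h1
        mul_mem' := fun {a b} ha hb => h3 a ha b hb
        inv_mem' := fun {a} ha => by
          show a⁻¹ ∈ (s : Set (DihedralGroup 4))
          rwa [inv_eq_of_mul_eq_one_right (h2 a ha)] }
    have hS : mk s = S := Subgroup.closure_eq S
    rw [hS]
    rfl
  have hA := hmk A (by decide) (by decide) (by decide)
  have hB := hmk B (by decide) (by decide) (by decide)
  have hK : ∀ s : Finset (DihedralGroup 4), s.card = 4 → (∀ x ∈ s, x * x = 1) →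
      ((mk s : Subgroup _) : Set (DihedralGroup 4)) = s → IsKleinFour ↥(mk s) := by
    intro s hs h2 hcoe
    have hnt : Nat.card ↥(mk s) = 4 := by
      rw [← SetLike.coe_sort_coe, hcoe, Nat.card_coe_set_eq, Set.ncard_coe_finset, hs]
    refine ⟨hnt, ?_⟩
    have hd : Monoid.exponent ↥(mk s) ∣ 2 := Monoid.exponent_dvd_of_forall_pow_eq_one fun x => by
      apply Subtype.ext
      have hx : (x : DihedralGroup 4) ∈ (s : Set (DihedralGroup 4)) := hcoe ▸ x.2
      rw [SubgroupClass.coe_pow, pow_two]
      exact h2 _ hx
    refine ((Nat.dvd_prime Nat.prime_two).mp hd).resolve_left fun he => ?_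
    have := Monoid.exp_eq_one_iff.mp he
    rw [Nat.card_unique] at hnt
    norm_num at hnt
  have hne : mk A ≠ mk B := by
    intro he
    have h2 : (A : Set (DihedralGroup 4)) = B := by rw [← hA, he, hB]
    exact absurd (Finset.coe_injective h2) (by decide)
  rw [Nat.card_eq_two_iff]
  refine ⟨⟨mk A, hK A (by decide) (by decide) hA⟩, ⟨mk B, hK B (by decide) (by decide) hB⟩,
    fun e => hne (congrArg Subtype.val e), ?_⟩
  refine Set.eq_univ_of_forall fun V => ?_
  obtain ⟨V, hV⟩ := V
  let s : Finset (DihedralGroup 4) := (V : Set (DihedralGroup 4)).toFinset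
  have hs : s.card = 4 := by
    rw [Set.toFinset_card, ← Nat.card_eq_fintype_card]
    exact hV.card_four
  have h2 : ∀ x ∈ s, x * x = 1 := fun x hx =>
    congrArg Subtype.val (IsKleinFour.mul_self (⟨x, Set.mem_toFinset.mp hx⟩ : ↥V))
  have h3 : ∀ x ∈ s, ∀ y ∈ s, x * y ∈ s := fun x hx y hy =>
    Set.mem_toFinset.mpr (mul_mem (Set.mem_toFinset.mp hx) (Set.mem_toFinset.mp hy))
  rcases key s hs h2 h3 with e | e
  · refine Or.inl (Subtype.ext (SetLike.coe_injective ?_))
    show (V : Set (DihedralGroup 4)) = (mk A : Subgroup _)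
    rw [hA, ← e, Set.coe_toFinset]
  · refine Or.inr (Subtype.ext (SetLike.coe_injective ?_))
    show (V : Set (DihedralGroup 4)) = (mk B : Subgroup _)
    rw [hB, ← e, Set.coe_toFinset]

omit [Finite G] [IsSimpleGroup G] in
theorem kleinFour_congr {A B : Type*} [Group A] [Group B] (e : A ≃* B) (hA : IsKleinFour A) :
    IsKleinFour B where
  card_four := (Nat.card_congr e.toEquiv).symm.trans hA.card_four
  exponent_two := (Monoid.exponent_eq_of_mulEquiv e).symm.trans hA.exponent_two

/-- A Sylow 2-subgroup contains exactly two four-groups. -/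
theorem card_fours (h : Nat.card G = 168) (T : Sylow 2 G) :
    Nat.card {U : Subgroup G // U ≤ (T : Subgroup G) ∧ IsKleinFour ↥U} = 2 := by
  obtain ⟨e⟩ := sylow2_dihedral h T
  let f := e.symm.toMonoidHom
  let g : DihedralGroup 4 →* G := (T : Subgroup G).subtype.comp f
  have hg : Function.Injective g := Subtype.val_injective.comp e.symm.injective
  let F : {V : Subgroup (DihedralGroup 4) // IsKleinFour ↥V} →
      {U : Subgroup G // U ≤ (T : Subgroup G) ∧ IsKleinFour ↥U} := fun V =>
    ⟨V.1.map g, by
      rintro x ⟨v, -, rfl⟩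
      exact (f v).2, kleinFour_congr (V.1.equivMapOfInjective g hg) V.2⟩
  have hF : Function.Bijective F := by
    constructor
    · intro a b hab
      exact Subtype.ext (Subgroup.map_injective hg (congrArg Subtype.val hab))
    · rintro ⟨U, hUT, hU⟩
      have hrange : U ≤ g.range := fun x hx => ⟨e ⟨x, hUT hx⟩, by
        show (((e.symm (e ⟨x, hUT hx⟩)) : ↥(T : Subgroup G)) : G) = x
        rw [e.symm_apply_apply]⟩
      refine ⟨⟨U.comap g, kleinFour_congr ?_ hU⟩, Subtype.ext (Subgroup.map_comap_eq_self hrange)⟩
      exact ((MulEquiv.subgroupCongr (Subgroup.map_comap_eq_self hrange)).symm.trans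
        ((U.comap g).equivMapOfInjective g hg).symm)
  rw [← Nat.card_eq_of_bijective F hF, dihedral_four_card]

/-- The normalizer of a four-group is maximal. -/
theorem isCoatom_normalizer_four (h : Nat.card G = 168) {U : Subgroup G} (hU : IsKleinFour ↥U) :
    IsCoatom (normalizer (U : Set G)) := by
  refine ⟨fun ht => ?_, fun K hlt => ?_⟩
  · have := card_normalizer_four h hU
    rw [ht, Subgroup.card_top, h] at this
    norm_num at this
  · by_contra hK
    have hdvd := two_mul_card_dvd_factorial (not_comm h) hK
    have h24 := card_normalizer_four h hU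
    have hmul := K.card_mul_index
    have hd := Subgroup.card_dvd_of_le hlt.le
    rw [h24] at hd
    rw [h] at hmul hdvd
    have hgt : 24 < Nat.card ↥K := by
      by_contra hle
      exact hlt.ne (eq_of_le_of_card_ge hlt.le (by omega))
    have hidx : K.index ≤ 6 := by
      by_contra h7
      have := Nat.mul_le_mul hgt (not_le.mp h7)
      omega
    have := hdvd.trans (Nat.factorial_dvd_factorial hidx)
    norm_num [Nat.factorial] at this

/-- A subgroup containing a normal four-group lies in its normalizer. -/
theorem le_normalizer_four_of_normal {M U : Subgroup G} (hUM : U ≤ M)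
    (hn : (U.subgroupOf M).Normal) : M ≤ normalizer (U : Set G) :=
  (normal_subgroupOf_iff_le_normalizer hUM).mp hn

/-- A subgroup of order 6 lies in the normalizer of some four-group. -/
theorem six_le (h : Nat.card G = 168) (P : Sylow 3 G) :
    ∃ U : Subgroup G, IsKleinFour ↥U ∧
      normalizer ((P : Subgroup G) : Set G) ≤ normalizer (U : Set G) := by
  have : Fact (Nat.Prime 3) := ⟨by norm_num⟩
  obtain ⟨⟨U, -, hU⟩⟩ : Nonempty {U : Subgroup G // U ≤ ((default : Sylow 2 G) : Subgroup G) ∧
      IsKleinFour ↥U} := (Nat.card_ne_zero.mp (by rw [card_fours h]; norm_num)).1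
  set N := normalizer (U : Set G) with hN
  have hNc := card_normalizer_four h hU
  let R : Sylow 3 ↥N := default
  have hRc : Nat.card ↥(R : Subgroup ↥N) = 3 := by
    simpa using card_sylow_eq R (a := 1) (m := 8) (by rw [hNc]; norm_num) (by norm_num)
  let P₀ : Sylow 3 G := Sylow.ofCard ((R : Subgroup ↥N).map N.subtype) (by
    rw [← Nat.card_congr ((R : Subgroup ↥N).equivMapOfInjective _ N.subtype_injective).toEquiv,
      hRc]
    exact (card_of_sylow3 h P).symm.trans P.card_eq_multiplicity)
  have hle : (normalizer ((R : Subgroup ↥N) : Set ↥N)).map N.subtype ≤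
      normalizer ((P₀ : Subgroup G) : Set G) := le_normalizer_map _
  have h6 := card_normalizer3 h P₀
  have hcard := card_normalizer_mul R
  rw [hNc] at hcard
  have hn4 : Nat.card (Sylow 3 ↥N) ≤ 4 := by
    have hm := card_sylow_mem (G := ↥N) (p := 3) (a := 1) (m := 8)
      (by rw [hNc]; norm_num) (by norm_num)
    rw [show (8 : ℕ).divisors.filter (fun d => d % 3 = 1) = {1, 4} by decide] at hm
    simp only [Finset.mem_insert, Finset.mem_singleton] at hm
    omega
  have hge : 6 ≤ Nat.card ↥((normalizer ((R : Subgroup ↥N) : Set ↥N)).map N.subtype) := by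
    rw [← Nat.card_congr ((normalizer ((R : Subgroup ↥N) : Set ↥N)).equivMapOfInjective _
      N.subtype_injective).toEquiv]
    by_contra hlt
    have := Nat.mul_le_mul (Nat.le_of_lt_succ (not_le.mp hlt)) hn4
    omega
  have heq := eq_of_le_of_card_ge hle (by omega)
  have hP₀N : normalizer ((P₀ : Subgroup G) : Set G) ≤ N := heq ▸ map_subtype_le _
  obtain ⟨g, hg⟩ := MulAction.exists_smul_eq G P₀ P
  refine ⟨U.map (MulAut.conj g).toMonoidHom, kleinFour_map_conj hU g, ?_⟩
  rw [normalizer_map_conj, ← hg]
  show normalizer (((P₀ : Subgroup G).map (MulAut.conj g).toMonoidHom : Subgroup G) : Set G) ≤ _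
  rw [normalizer_map_conj]
  exact Subgroup.map_mono hP₀N

/-- Maximal subgroups. -/
theorem maximal_cases (h : Nat.card G = 168) {M : Subgroup G} (hM : IsCoatom M) :
    (∃ U : Subgroup G, IsKleinFour ↥U ∧ M = normalizer (U : Set G)) ∨
      (∃ Q : Sylow 7 G, M = normalizer ((Q : Subgroup G) : Set G)) := by
  have : Fact (Nat.Prime 2) := ⟨by norm_num⟩
  have : Fact (Nat.Prime 3) := ⟨by norm_num⟩
  have : Fact (Nat.Prime 7) := ⟨by norm_num⟩
  have hfour : ∀ U : Subgroup G, IsKleinFour ↥U → M ≤ normalizer (U : Set G) →
      M = normalizer (U : Set G) := fun U hU hle => by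
    rcases hle.lt_or_eq with hlt | he
    · exact absurd (hM.2 _ hlt) (isCoatom_normalizer_four h hU).1
    · exact he
  have hmul := M.card_mul_index
  have hfac := two_mul_card_dvd_factorial (not_comm h) hM.1
  rw [h] at hmul hfac
  have hidx : 7 ≤ M.index := by
    by_contra hlt
    have := hfac.trans (Nat.factorial_dvd_factorial (Nat.le_of_lt_succ (not_le.mp hlt)))
    norm_num [Nat.factorial] at this
  have hMle : Nat.card ↥M ≤ 24 := by
    by_contra hlt
    have := Nat.mul_le_mul (not_le.mp hlt) hidx
    omega
  have hM8 : M.index ∣ 168 := Dvd.intro_left _ hmul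
  by_cases h7 : 7 ∣ Nat.card ↥M
  · right
    obtain ⟨⟨x, hx⟩, hx7⟩ := exists_prime_orderOf_dvd_card' 7 h7
    rw [Subgroup.orderOf_mk] at hx7
    obtain ⟨Q, hQ⟩ := (IsPGroup.of_card (n := 1)
      (by rw [Nat.card_zpowers, hx7, pow_one]) : IsPGroup 7 ↥(zpowers x)).exists_le_sylow
    have hQx : zpowers x = (Q : Subgroup G) :=
      eq_of_le_of_card_ge hQ (by rw [card_of_sylow7 h Q, Nat.card_zpowers, hx7])
    have hQM : (Q : Subgroup G) ≤ M := hQx ▸ zpowers_le.mpr hx
    let R : Sylow 7 ↥M := Q.subtype hQM
    have hd := R.card_dvd_index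
    have hidx' := Subgroup.card_mul_index (R : Subgroup ↥M)
    have hRc : Nat.card ↥(R : Subgroup ↥M) = 7 :=
      (Nat.card_congr (subgroupOfEquivOfLe hQM).toEquiv).trans (card_of_sylow7 h Q)
    rw [hRc] at hidx'
    have hmod : Nat.card (Sylow 7 ↥M) % 7 = 1 := card_sylow_mod
    have hle3 : (R : Subgroup ↥M).index ≤ 3 := by omega
    have hpos : 0 < (R : Subgroup ↥M).index := Nat.pos_of_ne_zero Subgroup.index_ne_zero_of_finite
    have := Nat.le_of_dvd hpos hd
    have h1 : Nat.card (Sylow 7 ↥M) = 1 := by omega
    have : Subsingleton (Sylow 7 ↥M) := (Nat.card_eq_one_iff_unique.mp h1).1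
    have hn : (R : Subgroup ↥M).Normal := R.normal_of_subsingleton
    refine ⟨Q, ?_⟩
    have hle : M ≤ normalizer ((Q : Subgroup G) : Set G) :=
      (normal_subgroupOf_iff_le_normalizer hQM).mp hn
    rcases hle.lt_or_eq with hlt | he
    · have := card_normalizer7 h Q
      rw [hM.2 _ hlt, Subgroup.card_top, h] at this
      norm_num at this
    · exact he
  left
  by_cases h3 : 3 ∣ Nat.card ↥M
  · obtain ⟨⟨x, hx⟩, hx3⟩ := exists_prime_orderOf_dvd_card' 3 h3
    rw [Subgroup.orderOf_mk] at hx3
    obtain ⟨P, hP⟩ := (IsPGroup.of_card (n := 1)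
      (by rw [Nat.card_zpowers, hx3, pow_one]) : IsPGroup 3 ↥(zpowers x)).exists_le_sylow
    have hPx : zpowers x = (P : Subgroup G) :=
      eq_of_le_of_card_ge hP (by rw [card_of_sylow3 h P, Nat.card_zpowers, hx3])
    have hPM : (P : Subgroup G) ≤ M := hPx ▸ zpowers_le.mpr hx
    let R : Sylow 3 ↥M := P.subtype hPM
    have hRc : Nat.card ↥(R : Subgroup ↥M) = 3 :=
      (Nat.card_congr (subgroupOfEquivOfLe hPM).toEquiv).trans (card_of_sylow3 h P)
    have hidx' := Subgroup.card_mul_index (R : Subgroup ↥M)
    rw [hRc] at hidx'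
    by_cases h1 : Nat.card (Sylow 3 ↥M) = 1
    · have : Subsingleton (Sylow 3 ↥M) := (Nat.card_eq_one_iff_unique.mp h1).1
      have hn : (R : Subgroup ↥M).Normal := R.normal_of_subsingleton
      have hle : M ≤ normalizer ((P : Subgroup G) : Set G) :=
        (normal_subgroupOf_iff_le_normalizer hPM).mp hn
      obtain ⟨U, hU, hUle⟩ := six_le h P
      exact ⟨U, hU, hfour U hU (hle.trans hUle)⟩
    · -- four Sylow 3-subgroups: `M` has a normal four-group
      have hd := R.card_dvd_index
      have hmod : Nat.card (Sylow 3 ↥M) % 3 = 1 := card_sylow_mod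
      have hpos : 0 < (R : Subgroup ↥M).index := Nat.pos_of_ne_zero Subgroup.index_ne_zero_of_finite
      have hcases : Nat.card ↥M = 12 ∨ Nat.card ↥M = 24 := by
        have hMd : Nat.card ↥M ∣ 168 := Dvd.intro _ hmul
        have hmem : Nat.card ↥M ∈ (168 : ℕ).divisors := Nat.mem_divisors.mpr ⟨hMd, by norm_num⟩
        rw [show (168 : ℕ).divisors =
          {1, 2, 3, 4, 6, 7, 8, 12, 14, 21, 24, 28, 42, 56, 84, 168} by decide] at hmem
        simp only [Finset.mem_insert, Finset.mem_singleton] at hmem
        have := Nat.le_of_dvd hpos hd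
        omega
      obtain ⟨n, hn⟩ : ∃ n, Nat.card ↥M = 12 * n ∧ (n = 1 ∨ n = 2) := by
        rcases hcases with e | e
        · exact ⟨1, by omega, Or.inl rfl⟩
        · exact ⟨2, by omega, Or.inr rfl⟩
      have h4M : 4 ∣ Nat.card ↥M := ⟨3 * n, by omega⟩
      have hM6 : ∀ g : ↥M, orderOf g ≠ 6 := fun g hg => by
        rw [← Subgroup.orderOf_coe] at hg
        rcases orderOf_mem h (g : G) with e | e | e | e | e <;> omega
      obtain ⟨U, hUM, hU, hnU⟩ : ∃ U : Subgroup G, U ≤ M ∧ IsKleinFour ↥U ∧
          (U.subgroupOf M).Normal := by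
        rcases hcases with e | e
        · -- order 12: the Sylow 2-subgroup is normal, being the rest of the group
          classical
          let S : Sylow 2 ↥M := default
          have hSc : Nat.card ↥(S : Subgroup ↥M) = 4 := by
            simpa using card_sylow_eq S (a := 2) (m := 3) (by rw [e]; norm_num) (by norm_num)
          have hS3 : Nat.card (Sylow 3 ↥M) = 4 := by
            have hm := card_sylow_mem (G := ↥M) (p := 3) (a := 1) (m := 4)
              (by rw [e]; norm_num) (by norm_num)
            rw [show (4 : ℕ).divisors.filter (fun d => d % 3 = 1) = {1, 4} by decide] at hm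
            simpa [h1] using hm
          have h8 : Nat.card {g : ↥M // orderOf g = 3} = 8 := by
            rw [card_orderOf_eq_prime (G := ↥M) (fun R => by
              simpa using card_sylow_eq R (a := 1) (m := 4) (by rw [e]; norm_num) (by norm_num)),
              hS3]
          have := Fintype.ofFinite ↥M
          have huni : ∀ S' : Sylow 2 ↥M, (S' : Subgroup ↥M) = (S : Subgroup ↥M) := by
            have key : ∀ S' : Sylow 2 ↥M, (Finset.univ.filter fun g : ↥M => g ∈ (S' : Subgroup ↥M)) =
                Finset.univ.filter fun g : ↥M => ¬ orderOf g = 3 := by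
              intro S'
              refine Finset.eq_of_subset_of_card_le ?_ ?_
              · intro g hg
                simp only [Finset.mem_filter, Finset.mem_univ, true_and] at hg ⊢
                intro hg3
                have hd : orderOf g ∣ 4 := by
                  rw [← hSc, S.card_eq_multiplicity, ← S'.card_eq_multiplicity,
                    ← Subgroup.orderOf_mk g hg]
                  exact orderOf_dvd_natCard _
                rw [hg3] at hd
                norm_num at hd
              · have h1 := Finset.card_filter_add_card_filter_not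
                  (s := (Finset.univ : Finset ↥M)) (fun g : ↥M => orderOf g = 3)
                rw [← Fintype.card_subtype (fun g : ↥M => orderOf g = 3), ← Nat.card_eq_fintype_card,
                  h8, Finset.card_univ, ← Nat.card_eq_fintype_card, e] at h1
                rw [← Fintype.card_subtype (fun g : ↥M => g ∈ (S' : Subgroup ↥M)),
                  ← Nat.card_eq_fintype_card]
                have : Nat.card {g : ↥M // g ∈ (S' : Subgroup ↥M)} = 4 :=
                  (S'.card_eq_multiplicity.trans S.card_eq_multiplicity.symm).trans hSc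
                omega
            intro S'
            ext g
            have := congrArg (fun s : Finset ↥M => g ∈ s) ((key S').trans (key S).symm)
            simpa using this
          have : Subsingleton (Sylow 2 ↥M) :=
            ⟨fun A B => _root_.Sylow.ext ((huni A).trans (huni B).symm)⟩
          have hSn : (S : Subgroup ↥M).Normal := S.normal_of_subsingleton
          refine ⟨(S : Subgroup ↥M).map M.subtype, map_subtype_le _, ?_, ?_⟩
          · refine kleinFour_congr ((S : Subgroup ↥M).equivMapOfInjective _ M.subtype_injective) ?_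
            refine ⟨hSc, ?_⟩
            have hd : Monoid.exponent ↥(S : Subgroup ↥M) ∣ 4 := hSc ▸ Group.exponent_dvd_nat_card
            obtain ⟨i, hi, hi'⟩ := (Nat.dvd_prime_pow Nat.prime_two).mp (show _ ∣ 2 ^ 2 from hd)
            interval_cases i
            · exfalso
              have := Monoid.exp_eq_one_iff.mp hi'
              rw [Nat.card_unique] at hSc
              norm_num at hSc
            · exact hi'
            · -- cyclic: then `M` lies in the normalizer, of order at most 8
              exfalso
              have : IsMulCommutative ↥(S : Subgroup ↥M) :=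
                IsPGroup.isMulCommutative_of_card_eq_prime_sq (p := 2) hSc
              have hcyc : IsCyclic ↥(S : Subgroup ↥M) := by
                open scoped IsMulCommutative in
                exact IsCyclic.of_exponent_eq_card (by rw [hi', hSc]; norm_num)
              obtain ⟨y, hy⟩ := hcyc.exists_ofOrder_eq_natCard
              rw [hSc] at hy
              have hy4 : orderOf ((y : ↥M) : G) = 4 := by
                rw [Subgroup.orderOf_coe, Subgroup.orderOf_coe, hy]
              set V := (S : Subgroup ↥M).map M.subtype with hV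
              have hVn : (V.subgroupOf M).Normal := by
                have he : V.subgroupOf M = (S : Subgroup ↥M) :=
                  Subgroup.comap_map_eq_self_of_injective M.subtype_injective _
                rw [he]; exact hSn
              have hle := le_normalizer_four_of_normal (map_subtype_le _) hVn
              have hVc : Nat.card ↥V = 4 :=
                (Nat.card_congr ((S : Subgroup ↥M).equivMapOfInjective _
                  M.subtype_injective).toEquiv).symm.trans hSc
              have hVcyc : IsCyclic ↥V := isCyclic_of_surjective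
                _ ((S : Subgroup ↥M).equivMapOfInjective M.subtype M.subtype_injective).surjective
              have hcz : Nat.card ↥(centralizer (V : Set G)) ≤ 4 := by
                rw [← card_centralizer4 h hy4]
                exact Subgroup.card_le_of_le (centralizer_le (Set.singleton_subset_iff.mpr
                  ⟨(y : ↥M), y.2, rfl⟩))
              have hmul := card_centralizer_mul_relIndex V
              have hd := relIndex_dvd_card_mulAut V
              rw [hVcyc.card_mulAut, hVc, show Nat.totient 4 = 2 by decide] at hd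
              have h12 := Subgroup.card_le_of_le hle
              rw [e, ← hmul] at h12
              have h2 := Nat.le_of_dvd (by norm_num) hd
              have := Nat.mul_le_mul hcz h2
              omega
          · have he : ((S : Subgroup ↥M).map M.subtype).subgroupOf M = (S : Subgroup ↥M) :=
              Subgroup.comap_map_eq_self_of_injective M.subtype_injective _
            rw [he]; exact hSn
        · -- order 24: `S₄`
          classical
          obtain ⟨f⟩ := Order24.mulEquiv_perm_four e hM6
          obtain ⟨V, hVn, hV⟩ : ∃ V : Subgroup (Equiv.Perm (Fin 4)), V.Normal ∧ IsKleinFour ↥V := by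
            refine ⟨(alternatingGroup.kleinFour (Fin 4)).map (alternatingGroup (Fin 4)).subtype,
              ?_, ?_⟩
            · have := alternatingGroup.characteristic_kleinFour (α := Fin 4) (by simp)
              infer_instance
            · exact kleinFour_congr (Subgroup.equivMapOfInjective _ _ Subtype.val_injective)
                (alternatingGroup.kleinFour_isKleinFour (by simp))
          let W := V.comap f.toMonoidHom
          have hW : IsKleinFour ↥W := by
            refine kleinFour_congr ?_ hV
            exact ((MulEquiv.subgroupCongr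
              (Subgroup.map_comap_eq_self_of_surjective f.surjective V)).symm.trans
              (W.equivMapOfInjective _ f.injective).symm)
          refine ⟨W.map M.subtype, map_subtype_le _,
            kleinFour_congr (W.equivMapOfInjective _ M.subtype_injective) hW, ?_⟩
          have he : (W.map M.subtype).subgroupOf M = W :=
            Subgroup.comap_map_eq_self_of_injective M.subtype_injective _
          rw [he]
          exact hVn.comap _
      exact ⟨U, hU, hfour U hU (le_normalizer_four_of_normal hUM hnU)⟩
  · -- a 2-group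
    have hd8 : Nat.card ↥M ∣ 8 := by
      have hMd : Nat.card ↥M ∣ 8 * 21 := Dvd.intro _ hmul
      refine Nat.Coprime.dvd_of_dvd_mul_right ?_ hMd
      rw [show (21 : ℕ) = 3 * 7 by norm_num, Nat.coprime_mul_iff_right]
      exact ⟨((Nat.Prime.coprime_iff_not_dvd (by norm_num)).mpr h3).symm,
        ((Nat.Prime.coprime_iff_not_dvd (by norm_num)).mpr h7).symm⟩
    obtain ⟨k, -, hk⟩ := (Nat.dvd_prime_pow Nat.prime_two).mp (show _ ∣ 2 ^ 3 from hd8)
    obtain ⟨T, hT⟩ := (IsPGroup.of_card hk : IsPGroup 2 ↥M).exists_le_sylow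
    obtain ⟨⟨U, hUT, hU⟩⟩ : Nonempty {U : Subgroup G // U ≤ (T : Subgroup G) ∧ IsKleinFour ↥U} :=
      (Nat.card_ne_zero.mp (by rw [card_fours h]; norm_num)).1
    exact ⟨U, hU, hfour U hU (hT.trans (le_normalizer_of_le h hU T hUT))⟩

end Cfsg.Agent.Lib.SmallGroups.Order168Four
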